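import Cfsg.Agent.Lib.Helper4.ONM.U3.Cert
set_option autoImplicit false
set_option maxRecDepth 1000000
set_option Elab.async false
namespace Cfsg.Agent.Lib.Helper4.ONM
open Cfsg.Agent.Lib.Helper4.Sparse
theorem c3_k_144 : chkURange D3 C3 589824 4096 = true := by decide +kernel
theorem c3_k_145 : chkURange D3 C3 593920 4096 = true := by decide +kernel
theorem c3_k_146 : chkURange D3 C3 598016 4096 = true := by decide +kernel
theorem c3_k_147 : chkURange D3 C3 602112 4096 = true := by decide +kernel
theorem c3_k_148 : chkURange D3 C3 606208 4096 = true := by decide +kernel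
theorem c3_k_149 : chkURange D3 C3 610304 4096 = true := by decide +kernel
theorem c3_k_150 : chkURange D3 C3 614400 4096 = true := by decide +kernel
theorem c3_k_151 : chkURange D3 C3 618496 4096 = true := by decide +kernel
theorem c3_k_152 : chkURange D3 C3 622592 4096 = true := by decide +kernel
theorem c3_k_153 : chkURange D3 C3 626688 4096 = true := by decide +kernel
theorem c3_k_154 : chkURange D3 C3 630784 4096 = true := by decide +kernel
theorem c3_k_155 : chkURange D3 C3 634880 4096 = true := by decide +kernel
theorem chkU3_12 (b : ℕ) (h1 : 589824 ≤ b) (h2 : b < 638976) : chkU D3 C3 b = true := by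
  rcases Nat.lt_or_ge b 593920 with g0 | g0
  · exact chkURange_spec D3 C3 589824 4096 c3_k_144 b (by omega) (by omega)
  rcases Nat.lt_or_ge b 598016 with g1 | g1
  · exact chkURange_spec D3 C3 593920 4096 c3_k_145 b (by omega) (by omega)
  rcases Nat.lt_or_ge b 602112 with g2 | g2
  · exact chkURange_spec D3 C3 598016 4096 c3_k_146 b (by omega) (by omega)
  rcases Nat.lt_or_ge b 606208 with g3 | g3
  · exact chkURange_spec D3 C3 602112 4096 c3_k_147 b (by omega) (by omega)
  rcases Nat.lt_or_ge b 610304 with g4 | g4
  · exact chkURange_spec D3 C3 606208 4096 c3_k_148 b (by omega) (by omega)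
  rcases Nat.lt_or_ge b 614400 with g5 | g5
  · exact chkURange_spec D3 C3 610304 4096 c3_k_149 b (by omega) (by omega)
  rcases Nat.lt_or_ge b 618496 with g6 | g6
  · exact chkURange_spec D3 C3 614400 4096 c3_k_150 b (by omega) (by omega)
  rcases Nat.lt_or_ge b 622592 with g7 | g7
  · exact chkURange_spec D3 C3 618496 4096 c3_k_151 b (by omega) (by omega)
  rcases Nat.lt_or_ge b 626688 with g8 | g8
  · exact chkURange_spec D3 C3 622592 4096 c3_k_152 b (by omega) (by omega)
  rcases Nat.lt_or_ge b 630784 with g9 | g9
  · exact chkURange_spec D3 C3 626688 4096 c3_k_153 b (by omega) (by omega)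
  rcases Nat.lt_or_ge b 634880 with g10 | g10
  · exact chkURange_spec D3 C3 630784 4096 c3_k_154 b (by omega) (by omega)
  exact chkURange_spec D3 C3 634880 4096 c3_k_155 b (by omega) (by omega)
end Cfsg.Agent.Lib.Helper4.ONM
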