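import Cfsg.Agent.Lib.Helper4.ONM.U3.Cert
set_option autoImplicit false
set_option maxRecDepth 1000000
set_option Elab.async false
namespace Cfsg.Agent.Lib.Helper4.ONM
open Cfsg.Agent.Lib.Helper4.Sparse
theorem c3_k_156 : chkURange D3 C3 638976 4096 = true := by decide +kernel
theorem c3_k_157 : chkURange D3 C3 643072 4096 = true := by decide +kernel
theorem c3_k_158 : chkURange D3 C3 647168 4096 = true := by decide +kernel
theorem c3_k_159 : chkURange D3 C3 651264 4096 = true := by decide +kernel
theorem c3_k_160 : chkURange D3 C3 655360 4096 = true := by decide +kernel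
theorem c3_k_161 : chkURange D3 C3 659456 4096 = true := by decide +kernel
theorem c3_k_162 : chkURange D3 C3 663552 4096 = true := by decide +kernel
theorem c3_k_163 : chkURange D3 C3 667648 4096 = true := by decide +kernel
theorem c3_k_164 : chkURange D3 C3 671744 4096 = true := by decide +kernel
theorem c3_k_165 : chkURange D3 C3 675840 4096 = true := by decide +kernel
theorem c3_k_166 : chkURange D3 C3 679936 4096 = true := by decide +kernel
theorem c3_k_167 : chkURange D3 C3 684032 4096 = true := by decide +kernel
theorem chkU3_13 (b : ℕ) (h1 : 638976 ≤ b) (h2 : b < 688128) : chkU D3 C3 b = true := by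
  rcases Nat.lt_or_ge b 643072 with g0 | g0
  · exact chkURange_spec D3 C3 638976 4096 c3_k_156 b (by omega) (by omega)
  rcases Nat.lt_or_ge b 647168 with g1 | g1
  · exact chkURange_spec D3 C3 643072 4096 c3_k_157 b (by omega) (by omega)
  rcases Nat.lt_or_ge b 651264 with g2 | g2
  · exact chkURange_spec D3 C3 647168 4096 c3_k_158 b (by omega) (by omega)
  rcases Nat.lt_or_ge b 655360 with g3 | g3
  · exact chkURange_spec D3 C3 651264 4096 c3_k_159 b (by omega) (by omega)
  rcases Nat.lt_or_ge b 659456 with g4 | g4
  · exact chkURange_spec D3 C3 655360 4096 c3_k_160 b (by omega) (by omega)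
  rcases Nat.lt_or_ge b 663552 with g5 | g5
  · exact chkURange_spec D3 C3 659456 4096 c3_k_161 b (by omega) (by omega)
  rcases Nat.lt_or_ge b 667648 with g6 | g6
  · exact chkURange_spec D3 C3 663552 4096 c3_k_162 b (by omega) (by omega)
  rcases Nat.lt_or_ge b 671744 with g7 | g7
  · exact chkURange_spec D3 C3 667648 4096 c3_k_163 b (by omega) (by omega)
  rcases Nat.lt_or_ge b 675840 with g8 | g8
  · exact chkURange_spec D3 C3 671744 4096 c3_k_164 b (by omega) (by omega)
  rcases Nat.lt_or_ge b 679936 with g9 | g9
  · exact chkURange_spec D3 C3 675840 4096 c3_k_165 b (by omega) (by omega)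
  rcases Nat.lt_or_ge b 684032 with g10 | g10
  · exact chkURange_spec D3 C3 679936 4096 c3_k_166 b (by omega) (by omega)
  exact chkURange_spec D3 C3 684032 4096 c3_k_167 b (by omega) (by omega)
end Cfsg.Agent.Lib.Helper4.ONM
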