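import Cfsg.Agent.Lib.Helper4.ONM.U3.Cert
set_option autoImplicit false
set_option maxRecDepth 1000000
set_option Elab.async false
namespace Cfsg.Agent.Lib.Helper4.ONM
open Cfsg.Agent.Lib.Helper4.Sparse
theorem c3_k_180 : chkURange D3 C3 737280 4096 = true := by decide +kernel
theorem c3_k_181 : chkURange D3 C3 741376 4096 = true := by decide +kernel
theorem c3_k_182 : chkURange D3 C3 745472 4096 = true := by decide +kernel
theorem c3_k_183 : chkURange D3 C3 749568 4096 = true := by decide +kernel
theorem c3_k_184 : chkURange D3 C3 753664 4096 = true := by decide +kernel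
theorem c3_k_185 : chkURange D3 C3 757760 4096 = true := by decide +kernel
theorem c3_k_186 : chkURange D3 C3 761856 4096 = true := by decide +kernel
theorem c3_k_187 : chkURange D3 C3 765952 4096 = true := by decide +kernel
theorem c3_k_188 : chkURange D3 C3 770048 4096 = true := by decide +kernel
theorem c3_k_189 : chkURange D3 C3 774144 4096 = true := by decide +kernel
theorem c3_k_190 : chkURange D3 C3 778240 4096 = true := by decide +kernel
theorem c3_k_191 : chkURange D3 C3 782336 4096 = true := by decide +kernel
theorem chkU3_15 (b : ℕ) (h1 : 737280 ≤ b) (h2 : b < 786432) : chkU D3 C3 b = true := by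
  rcases Nat.lt_or_ge b 741376 with g0 | g0
  · exact chkURange_spec D3 C3 737280 4096 c3_k_180 b (by omega) (by omega)
  rcases Nat.lt_or_ge b 745472 with g1 | g1
  · exact chkURange_spec D3 C3 741376 4096 c3_k_181 b (by omega) (by omega)
  rcases Nat.lt_or_ge b 749568 with g2 | g2
  · exact chkURange_spec D3 C3 745472 4096 c3_k_182 b (by omega) (by omega)
  rcases Nat.lt_or_ge b 753664 with g3 | g3
  · exact chkURange_spec D3 C3 749568 4096 c3_k_183 b (by omega) (by omega)
  rcases Nat.lt_or_ge b 757760 with g4 | g4
  · exact chkURange_spec D3 C3 753664 4096 c3_k_184 b (by omega) (by omega)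
  rcases Nat.lt_or_ge b 761856 with g5 | g5
  · exact chkURange_spec D3 C3 757760 4096 c3_k_185 b (by omega) (by omega)
  rcases Nat.lt_or_ge b 765952 with g6 | g6
  · exact chkURange_spec D3 C3 761856 4096 c3_k_186 b (by omega) (by omega)
  rcases Nat.lt_or_ge b 770048 with g7 | g7
  · exact chkURange_spec D3 C3 765952 4096 c3_k_187 b (by omega) (by omega)
  rcases Nat.lt_or_ge b 774144 with g8 | g8
  · exact chkURange_spec D3 C3 770048 4096 c3_k_188 b (by omega) (by omega)
  rcases Nat.lt_or_ge b 778240 with g9 | g9
  · exact chkURange_spec D3 C3 774144 4096 c3_k_189 b (by omega) (by omega)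
  rcases Nat.lt_or_ge b 782336 with g10 | g10
  · exact chkURange_spec D3 C3 778240 4096 c3_k_190 b (by omega) (by omega)
  exact chkURange_spec D3 C3 782336 4096 c3_k_191 b (by omega) (by omega)
end Cfsg.Agent.Lib.Helper4.ONM
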