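import Cfsg.Agent.Lib.Helper4.ONM.U3.Cert
set_option autoImplicit false
set_option maxRecDepth 1000000
set_option Elab.async false
namespace Cfsg.Agent.Lib.Helper4.ONM
open Cfsg.Agent.Lib.Helper4.Sparse
theorem c3_k_216 : chkURange D3 C3 884736 4096 = true := by decide +kernel
theorem c3_k_217 : chkURange D3 C3 888832 4096 = true := by decide +kernel
theorem c3_k_218 : chkURange D3 C3 892928 4096 = true := by decide +kernel
theorem c3_k_219 : chkURange D3 C3 897024 4096 = true := by decide +kernel
theorem c3_k_220 : chkURange D3 C3 901120 4096 = true := by decide +kernel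
theorem c3_k_221 : chkURange D3 C3 905216 4096 = true := by decide +kernel
theorem c3_k_222 : chkURange D3 C3 909312 4096 = true := by decide +kernel
theorem c3_k_223 : chkURange D3 C3 913408 4096 = true := by decide +kernel
theorem c3_k_224 : chkURange D3 C3 917504 4096 = true := by decide +kernel
theorem c3_k_225 : chkURange D3 C3 921600 4096 = true := by decide +kernel
theorem c3_k_226 : chkURange D3 C3 925696 4096 = true := by decide +kernel
theorem c3_k_227 : chkURange D3 C3 929792 4096 = true := by decide +kernel
theorem chkU3_18 (b : ℕ) (h1 : 884736 ≤ b) (h2 : b < 933888) : chkU D3 C3 b = true := by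
  rcases Nat.lt_or_ge b 888832 with g0 | g0
  · exact chkURange_spec D3 C3 884736 4096 c3_k_216 b (by omega) (by omega)
  rcases Nat.lt_or_ge b 892928 with g1 | g1
  · exact chkURange_spec D3 C3 888832 4096 c3_k_217 b (by omega) (by omega)
  rcases Nat.lt_or_ge b 897024 with g2 | g2
  · exact chkURange_spec D3 C3 892928 4096 c3_k_218 b (by omega) (by omega)
  rcases Nat.lt_or_ge b 901120 with g3 | g3
  · exact chkURange_spec D3 C3 897024 4096 c3_k_219 b (by omega) (by omega)
  rcases Nat.lt_or_ge b 905216 with g4 | g4
  · exact chkURange_spec D3 C3 901120 4096 c3_k_220 b (by omega) (by omega)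
  rcases Nat.lt_or_ge b 909312 with g5 | g5
  · exact chkURange_spec D3 C3 905216 4096 c3_k_221 b (by omega) (by omega)
  rcases Nat.lt_or_ge b 913408 with g6 | g6
  · exact chkURange_spec D3 C3 909312 4096 c3_k_222 b (by omega) (by omega)
  rcases Nat.lt_or_ge b 917504 with g7 | g7
  · exact chkURange_spec D3 C3 913408 4096 c3_k_223 b (by omega) (by omega)
  rcases Nat.lt_or_ge b 921600 with g8 | g8
  · exact chkURange_spec D3 C3 917504 4096 c3_k_224 b (by omega) (by omega)
  rcases Nat.lt_or_ge b 925696 with g9 | g9
  · exact chkURange_spec D3 C3 921600 4096 c3_k_225 b (by omega) (by omega)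
  rcases Nat.lt_or_ge b 929792 with g10 | g10
  · exact chkURange_spec D3 C3 925696 4096 c3_k_226 b (by omega) (by omega)
  exact chkURange_spec D3 C3 929792 4096 c3_k_227 b (by omega) (by omega)
end Cfsg.Agent.Lib.Helper4.ONM
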