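import Cfsg.Agent.Lib.Helper4.ONM.U3.Cert
set_option autoImplicit false
set_option maxRecDepth 1000000
set_option Elab.async false
namespace Cfsg.Agent.Lib.Helper4.ONM
open Cfsg.Agent.Lib.Helper4.Sparse
theorem c3_k_36 : chkURange D3 C3 147456 4096 = true := by decide +kernel
theorem c3_k_37 : chkURange D3 C3 151552 4096 = true := by decide +kernel
theorem c3_k_38 : chkURange D3 C3 155648 4096 = true := by decide +kernel
theorem c3_k_39 : chkURange D3 C3 159744 4096 = true := by decide +kernel
theorem c3_k_40 : chkURange D3 C3 163840 4096 = true := by decide +kernel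
theorem c3_k_41 : chkURange D3 C3 167936 4096 = true := by decide +kernel
theorem c3_k_42 : chkURange D3 C3 172032 4096 = true := by decide +kernel
theorem c3_k_43 : chkURange D3 C3 176128 4096 = true := by decide +kernel
theorem c3_k_44 : chkURange D3 C3 180224 4096 = true := by decide +kernel
theorem c3_k_45 : chkURange D3 C3 184320 4096 = true := by decide +kernel
theorem c3_k_46 : chkURange D3 C3 188416 4096 = true := by decide +kernel
theorem c3_k_47 : chkURange D3 C3 192512 4096 = true := by decide +kernel
theorem chkU3_3 (b : ℕ) (h1 : 147456 ≤ b) (h2 : b < 196608) : chkU D3 C3 b = true := by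
  rcases Nat.lt_or_ge b 151552 with g0 | g0
  · exact chkURange_spec D3 C3 147456 4096 c3_k_36 b (by omega) (by omega)
  rcases Nat.lt_or_ge b 155648 with g1 | g1
  · exact chkURange_spec D3 C3 151552 4096 c3_k_37 b (by omega) (by omega)
  rcases Nat.lt_or_ge b 159744 with g2 | g2
  · exact chkURange_spec D3 C3 155648 4096 c3_k_38 b (by omega) (by omega)
  rcases Nat.lt_or_ge b 163840 with g3 | g3
  · exact chkURange_spec D3 C3 159744 4096 c3_k_39 b (by omega) (by omega)
  rcases Nat.lt_or_ge b 167936 with g4 | g4
  · exact chkURange_spec D3 C3 163840 4096 c3_k_40 b (by omega) (by omega)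
  rcases Nat.lt_or_ge b 172032 with g5 | g5
  · exact chkURange_spec D3 C3 167936 4096 c3_k_41 b (by omega) (by omega)
  rcases Nat.lt_or_ge b 176128 with g6 | g6
  · exact chkURange_spec D3 C3 172032 4096 c3_k_42 b (by omega) (by omega)
  rcases Nat.lt_or_ge b 180224 with g7 | g7
  · exact chkURange_spec D3 C3 176128 4096 c3_k_43 b (by omega) (by omega)
  rcases Nat.lt_or_ge b 184320 with g8 | g8
  · exact chkURange_spec D3 C3 180224 4096 c3_k_44 b (by omega) (by omega)
  rcases Nat.lt_or_ge b 188416 with g9 | g9
  · exact chkURange_spec D3 C3 184320 4096 c3_k_45 b (by omega) (by omega)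
  rcases Nat.lt_or_ge b 192512 with g10 | g10
  · exact chkURange_spec D3 C3 188416 4096 c3_k_46 b (by omega) (by omega)
  exact chkURange_spec D3 C3 192512 4096 c3_k_47 b (by omega) (by omega)
end Cfsg.Agent.Lib.Helper4.ONM
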