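import Cfsg.Agent.Lib.Helper4.ONM.U3.E0
import Cfsg.Agent.Lib.Helper4.ONM.U3.E1
import Cfsg.Agent.Lib.Helper4.ONM.U3.E2
import Cfsg.Agent.Lib.Helper4.ONM.U3.E3
import Cfsg.Agent.Lib.Helper4.ONM.U3.E4
import Cfsg.Agent.Lib.Helper4.ONM.U3.E5
import Cfsg.Agent.Lib.Helper4.ONM.U3.E6
import Cfsg.Agent.Lib.Helper4.ONM.U3.E7
set_option autoImplicit false

/-! # The entries of the sparse certificate for the prime 3 -/

namespace Cfsg.Agent.Lib.Helper4.ONM

noncomputable def e3T0 (i : Nat) : Nat := Bool.rec (e3L1 i) (e3L2 i) (Nat.ble 2048 i)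
noncomputable def e3T1 (i : Nat) : Nat := Bool.rec (e3L0 i) (e3T0 i) (Nat.ble 1024 i)
noncomputable def e3T2 (i : Nat) : Nat := Bool.rec (e3L3 i) (e3L4 i) (Nat.ble 4096 i)
noncomputable def e3T3 (i : Nat) : Nat := Bool.rec (e3L5 i) (e3L6 i) (Nat.ble 6144 i)
noncomputable def e3T4 (i : Nat) : Nat := Bool.rec (e3T2 i) (e3T3 i) (Nat.ble 5120 i)
noncomputable def e3T5 (i : Nat) : Nat := Bool.rec (e3T1 i) (e3T4 i) (Nat.ble 3072 i)
noncomputable def e3T6 (i : Nat) : Nat := Bool.rec (e3L7 i) (e3L8 i) (Nat.ble 8192 i)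
noncomputable def e3T7 (i : Nat) : Nat := Bool.rec (e3L9 i) (e3L10 i) (Nat.ble 10240 i)
noncomputable def e3T8 (i : Nat) : Nat := Bool.rec (e3T6 i) (e3T7 i) (Nat.ble 9216 i)
noncomputable def e3T9 (i : Nat) : Nat := Bool.rec (e3L11 i) (e3L12 i) (Nat.ble 12288 i)
noncomputable def e3T10 (i : Nat) : Nat := Bool.rec (e3L13 i) (e3L14 i) (Nat.ble 14336 i)
noncomputable def e3T11 (i : Nat) : Nat := Bool.rec (e3T9 i) (e3T10 i) (Nat.ble 13312 i)
noncomputable def e3T12 (i : Nat) : Nat := Bool.rec (e3T8 i) (e3T11 i) (Nat.ble 11264 i)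
noncomputable def e3T13 (i : Nat) : Nat := Bool.rec (e3T5 i) (e3T12 i) (Nat.ble 7168 i)
noncomputable def e3T14 (i : Nat) : Nat := Bool.rec (e3L16 i) (e3L17 i) (Nat.ble 17408 i)
noncomputable def e3T15 (i : Nat) : Nat := Bool.rec (e3L15 i) (e3T14 i) (Nat.ble 16384 i)
noncomputable def e3T16 (i : Nat) : Nat := Bool.rec (e3L18 i) (e3L19 i) (Nat.ble 19456 i)
noncomputable def e3T17 (i : Nat) : Nat := Bool.rec (e3L20 i) (e3L21 i) (Nat.ble 21504 i)
noncomputable def e3T18 (i : Nat) : Nat := Bool.rec (e3T16 i) (e3T17 i) (Nat.ble 20480 i)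
noncomputable def e3T19 (i : Nat) : Nat := Bool.rec (e3T15 i) (e3T18 i) (Nat.ble 18432 i)
noncomputable def e3T20 (i : Nat) : Nat := Bool.rec (e3L22 i) (e3L23 i) (Nat.ble 23552 i)
noncomputable def e3T21 (i : Nat) : Nat := Bool.rec (e3L24 i) (e3L25 i) (Nat.ble 25600 i)
noncomputable def e3T22 (i : Nat) : Nat := Bool.rec (e3T20 i) (e3T21 i) (Nat.ble 24576 i)
noncomputable def e3T23 (i : Nat) : Nat := Bool.rec (e3L26 i) (e3L27 i) (Nat.ble 27648 i)
noncomputable def e3T24 (i : Nat) : Nat := Bool.rec (e3L28 i) (e3L29 i) (Nat.ble 29696 i)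
noncomputable def e3T25 (i : Nat) : Nat := Bool.rec (e3T23 i) (e3T24 i) (Nat.ble 28672 i)
noncomputable def e3T26 (i : Nat) : Nat := Bool.rec (e3T22 i) (e3T25 i) (Nat.ble 26624 i)
noncomputable def e3T27 (i : Nat) : Nat := Bool.rec (e3T19 i) (e3T26 i) (Nat.ble 22528 i)
noncomputable def e3T28 (i : Nat) : Nat := Bool.rec (e3T13 i) (e3T27 i) (Nat.ble 15360 i)
noncomputable def e3T29 (i : Nat) : Nat := Bool.rec (e3L31 i) (e3L32 i) (Nat.ble 32768 i)
noncomputable def e3T30 (i : Nat) : Nat := Bool.rec (e3L30 i) (e3T29 i) (Nat.ble 31744 i)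
noncomputable def e3T31 (i : Nat) : Nat := Bool.rec (e3L33 i) (e3L34 i) (Nat.ble 34816 i)
noncomputable def e3T32 (i : Nat) : Nat := Bool.rec (e3L35 i) (e3L36 i) (Nat.ble 36864 i)
noncomputable def e3T33 (i : Nat) : Nat := Bool.rec (e3T31 i) (e3T32 i) (Nat.ble 35840 i)
noncomputable def e3T34 (i : Nat) : Nat := Bool.rec (e3T30 i) (e3T33 i) (Nat.ble 33792 i)
noncomputable def e3T35 (i : Nat) : Nat := Bool.rec (e3L37 i) (e3L38 i) (Nat.ble 38912 i)
noncomputable def e3T36 (i : Nat) : Nat := Bool.rec (e3L39 i) (e3L40 i) (Nat.ble 40960 i)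
noncomputable def e3T37 (i : Nat) : Nat := Bool.rec (e3T35 i) (e3T36 i) (Nat.ble 39936 i)
noncomputable def e3T38 (i : Nat) : Nat := Bool.rec (e3L41 i) (e3L42 i) (Nat.ble 43008 i)
noncomputable def e3T39 (i : Nat) : Nat := Bool.rec (e3L43 i) (e3L44 i) (Nat.ble 45056 i)
noncomputable def e3T40 (i : Nat) : Nat := Bool.rec (e3T38 i) (e3T39 i) (Nat.ble 44032 i)
noncomputable def e3T41 (i : Nat) : Nat := Bool.rec (e3T37 i) (e3T40 i) (Nat.ble 41984 i)
noncomputable def e3T42 (i : Nat) : Nat := Bool.rec (e3T34 i) (e3T41 i) (Nat.ble 37888 i)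
noncomputable def e3T43 (i : Nat) : Nat := Bool.rec (e3L46 i) (e3L47 i) (Nat.ble 48128 i)
noncomputable def e3T44 (i : Nat) : Nat := Bool.rec (e3L45 i) (e3T43 i) (Nat.ble 47104 i)
noncomputable def e3T45 (i : Nat) : Nat := Bool.rec (e3L48 i) (e3L49 i) (Nat.ble 50176 i)
noncomputable def e3T46 (i : Nat) : Nat := Bool.rec (e3L50 i) (e3L51 i) (Nat.ble 52224 i)
noncomputable def e3T47 (i : Nat) : Nat := Bool.rec (e3T45 i) (e3T46 i) (Nat.ble 51200 i)
noncomputable def e3T48 (i : Nat) : Nat := Bool.rec (e3T44 i) (e3T47 i) (Nat.ble 49152 i)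
noncomputable def e3T49 (i : Nat) : Nat := Bool.rec (e3L52 i) (e3L53 i) (Nat.ble 54272 i)
noncomputable def e3T50 (i : Nat) : Nat := Bool.rec (e3L54 i) (e3L55 i) (Nat.ble 56320 i)
noncomputable def e3T51 (i : Nat) : Nat := Bool.rec (e3T49 i) (e3T50 i) (Nat.ble 55296 i)
noncomputable def e3T52 (i : Nat) : Nat := Bool.rec (e3L56 i) (e3L57 i) (Nat.ble 58368 i)
noncomputable def e3T53 (i : Nat) : Nat := Bool.rec (e3L58 i) (e3L59 i) (Nat.ble 60416 i)
noncomputable def e3T54 (i : Nat) : Nat := Bool.rec (e3T52 i) (e3T53 i) (Nat.ble 59392 i)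
noncomputable def e3T55 (i : Nat) : Nat := Bool.rec (e3T51 i) (e3T54 i) (Nat.ble 57344 i)
noncomputable def e3T56 (i : Nat) : Nat := Bool.rec (e3T48 i) (e3T55 i) (Nat.ble 53248 i)
noncomputable def e3T57 (i : Nat) : Nat := Bool.rec (e3T42 i) (e3T56 i) (Nat.ble 46080 i)
noncomputable def e3T58 (i : Nat) : Nat := Bool.rec (e3T28 i) (e3T57 i) (Nat.ble 30720 i)
noncomputable def e3T59 (i : Nat) : Nat := Bool.rec (e3L61 i) (e3L62 i) (Nat.ble 63488 i)
noncomputable def e3T60 (i : Nat) : Nat := Bool.rec (e3L60 i) (e3T59 i) (Nat.ble 62464 i)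
noncomputable def e3T61 (i : Nat) : Nat := Bool.rec (e3L63 i) (e3L64 i) (Nat.ble 65536 i)
noncomputable def e3T62 (i : Nat) : Nat := Bool.rec (e3L65 i) (e3L66 i) (Nat.ble 67584 i)
noncomputable def e3T63 (i : Nat) : Nat := Bool.rec (e3T61 i) (e3T62 i) (Nat.ble 66560 i)
noncomputable def e3T64 (i : Nat) : Nat := Bool.rec (e3T60 i) (e3T63 i) (Nat.ble 64512 i)
noncomputable def e3T65 (i : Nat) : Nat := Bool.rec (e3L67 i) (e3L68 i) (Nat.ble 69632 i)
noncomputable def e3T66 (i : Nat) : Nat := Bool.rec (e3L69 i) (e3L70 i) (Nat.ble 71680 i)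
noncomputable def e3T67 (i : Nat) : Nat := Bool.rec (e3T65 i) (e3T66 i) (Nat.ble 70656 i)
noncomputable def e3T68 (i : Nat) : Nat := Bool.rec (e3L71 i) (e3L72 i) (Nat.ble 73728 i)
noncomputable def e3T69 (i : Nat) : Nat := Bool.rec (e3L73 i) (e3L74 i) (Nat.ble 75776 i)
noncomputable def e3T70 (i : Nat) : Nat := Bool.rec (e3T68 i) (e3T69 i) (Nat.ble 74752 i)
noncomputable def e3T71 (i : Nat) : Nat := Bool.rec (e3T67 i) (e3T70 i) (Nat.ble 72704 i)
noncomputable def e3T72 (i : Nat) : Nat := Bool.rec (e3T64 i) (e3T71 i) (Nat.ble 68608 i)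
noncomputable def e3T73 (i : Nat) : Nat := Bool.rec (e3L76 i) (e3L77 i) (Nat.ble 78848 i)
noncomputable def e3T74 (i : Nat) : Nat := Bool.rec (e3L75 i) (e3T73 i) (Nat.ble 77824 i)
noncomputable def e3T75 (i : Nat) : Nat := Bool.rec (e3L78 i) (e3L79 i) (Nat.ble 80896 i)
noncomputable def e3T76 (i : Nat) : Nat := Bool.rec (e3L80 i) (e3L81 i) (Nat.ble 82944 i)
noncomputable def e3T77 (i : Nat) : Nat := Bool.rec (e3T75 i) (e3T76 i) (Nat.ble 81920 i)
noncomputable def e3T78 (i : Nat) : Nat := Bool.rec (e3T74 i) (e3T77 i) (Nat.ble 79872 i)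
noncomputable def e3T79 (i : Nat) : Nat := Bool.rec (e3L82 i) (e3L83 i) (Nat.ble 84992 i)
noncomputable def e3T80 (i : Nat) : Nat := Bool.rec (e3L84 i) (e3L85 i) (Nat.ble 87040 i)
noncomputable def e3T81 (i : Nat) : Nat := Bool.rec (e3T79 i) (e3T80 i) (Nat.ble 86016 i)
noncomputable def e3T82 (i : Nat) : Nat := Bool.rec (e3L86 i) (e3L87 i) (Nat.ble 89088 i)
noncomputable def e3T83 (i : Nat) : Nat := Bool.rec (e3L88 i) (e3L89 i) (Nat.ble 91136 i)
noncomputable def e3T84 (i : Nat) : Nat := Bool.rec (e3T82 i) (e3T83 i) (Nat.ble 90112 i)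
noncomputable def e3T85 (i : Nat) : Nat := Bool.rec (e3T81 i) (e3T84 i) (Nat.ble 88064 i)
noncomputable def e3T86 (i : Nat) : Nat := Bool.rec (e3T78 i) (e3T85 i) (Nat.ble 83968 i)
noncomputable def e3T87 (i : Nat) : Nat := Bool.rec (e3T72 i) (e3T86 i) (Nat.ble 76800 i)
noncomputable def e3T88 (i : Nat) : Nat := Bool.rec (e3L91 i) (e3L92 i) (Nat.ble 94208 i)
noncomputable def e3T89 (i : Nat) : Nat := Bool.rec (e3L90 i) (e3T88 i) (Nat.ble 93184 i)
noncomputable def e3T90 (i : Nat) : Nat := Bool.rec (e3L93 i) (e3L94 i) (Nat.ble 96256 i)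
noncomputable def e3T91 (i : Nat) : Nat := Bool.rec (e3L95 i) (e3L96 i) (Nat.ble 98304 i)
noncomputable def e3T92 (i : Nat) : Nat := Bool.rec (e3T90 i) (e3T91 i) (Nat.ble 97280 i)
noncomputable def e3T93 (i : Nat) : Nat := Bool.rec (e3T89 i) (e3T92 i) (Nat.ble 95232 i)
noncomputable def e3T94 (i : Nat) : Nat := Bool.rec (e3L97 i) (e3L98 i) (Nat.ble 100352 i)
noncomputable def e3T95 (i : Nat) : Nat := Bool.rec (e3L99 i) (e3L100 i) (Nat.ble 102400 i)
noncomputable def e3T96 (i : Nat) : Nat := Bool.rec (e3T94 i) (e3T95 i) (Nat.ble 101376 i)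
noncomputable def e3T97 (i : Nat) : Nat := Bool.rec (e3L101 i) (e3L102 i) (Nat.ble 104448 i)
noncomputable def e3T98 (i : Nat) : Nat := Bool.rec (e3L103 i) (e3L104 i) (Nat.ble 106496 i)
noncomputable def e3T99 (i : Nat) : Nat := Bool.rec (e3T97 i) (e3T98 i) (Nat.ble 105472 i)
noncomputable def e3T100 (i : Nat) : Nat := Bool.rec (e3T96 i) (e3T99 i) (Nat.ble 103424 i)
noncomputable def e3T101 (i : Nat) : Nat := Bool.rec (e3T93 i) (e3T100 i) (Nat.ble 99328 i)
noncomputable def e3T102 (i : Nat) : Nat := Bool.rec (e3L106 i) (e3L107 i) (Nat.ble 109568 i)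
noncomputable def e3T103 (i : Nat) : Nat := Bool.rec (e3L105 i) (e3T102 i) (Nat.ble 108544 i)
noncomputable def e3T104 (i : Nat) : Nat := Bool.rec (e3L108 i) (e3L109 i) (Nat.ble 111616 i)
noncomputable def e3T105 (i : Nat) : Nat := Bool.rec (e3L110 i) (e3L111 i) (Nat.ble 113664 i)
noncomputable def e3T106 (i : Nat) : Nat := Bool.rec (e3T104 i) (e3T105 i) (Nat.ble 112640 i)
noncomputable def e3T107 (i : Nat) : Nat := Bool.rec (e3T103 i) (e3T106 i) (Nat.ble 110592 i)
noncomputable def e3T108 (i : Nat) : Nat := Bool.rec (e3L112 i) (e3L113 i) (Nat.ble 115712 i)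
noncomputable def e3T109 (i : Nat) : Nat := Bool.rec (e3L114 i) (e3L115 i) (Nat.ble 117760 i)
noncomputable def e3T110 (i : Nat) : Nat := Bool.rec (e3T108 i) (e3T109 i) (Nat.ble 116736 i)
noncomputable def e3T111 (i : Nat) : Nat := Bool.rec (e3L116 i) (e3L117 i) (Nat.ble 119808 i)
noncomputable def e3T112 (i : Nat) : Nat := Bool.rec (e3L118 i) (e3L119 i) (Nat.ble 121856 i)
noncomputable def e3T113 (i : Nat) : Nat := Bool.rec (e3T111 i) (e3T112 i) (Nat.ble 120832 i)
noncomputable def e3T114 (i : Nat) : Nat := Bool.rec (e3T110 i) (e3T113 i) (Nat.ble 118784 i)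
noncomputable def e3T115 (i : Nat) : Nat := Bool.rec (e3T107 i) (e3T114 i) (Nat.ble 114688 i)
noncomputable def e3T116 (i : Nat) : Nat := Bool.rec (e3T101 i) (e3T115 i) (Nat.ble 107520 i)
noncomputable def e3T117 (i : Nat) : Nat := Bool.rec (e3T87 i) (e3T116 i) (Nat.ble 92160 i)
noncomputable def e3T118 (i : Nat) : Nat := Bool.rec (e3T58 i) (e3T117 i) (Nat.ble 61440 i)
noncomputable def e3T119 (i : Nat) : Nat := Bool.rec (e3L121 i) (e3L122 i) (Nat.ble 124928 i)
noncomputable def e3T120 (i : Nat) : Nat := Bool.rec (e3L120 i) (e3T119 i) (Nat.ble 123904 i)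
noncomputable def e3T121 (i : Nat) : Nat := Bool.rec (e3L123 i) (e3L124 i) (Nat.ble 126976 i)
noncomputable def e3T122 (i : Nat) : Nat := Bool.rec (e3L125 i) (e3L126 i) (Nat.ble 129024 i)
noncomputable def e3T123 (i : Nat) : Nat := Bool.rec (e3T121 i) (e3T122 i) (Nat.ble 128000 i)
noncomputable def e3T124 (i : Nat) : Nat := Bool.rec (e3T120 i) (e3T123 i) (Nat.ble 125952 i)
noncomputable def e3T125 (i : Nat) : Nat := Bool.rec (e3L127 i) (e3L128 i) (Nat.ble 131072 i)
noncomputable def e3T126 (i : Nat) : Nat := Bool.rec (e3L129 i) (e3L130 i) (Nat.ble 133120 i)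
noncomputable def e3T127 (i : Nat) : Nat := Bool.rec (e3T125 i) (e3T126 i) (Nat.ble 132096 i)
noncomputable def e3T128 (i : Nat) : Nat := Bool.rec (e3L131 i) (e3L132 i) (Nat.ble 135168 i)
noncomputable def e3T129 (i : Nat) : Nat := Bool.rec (e3L133 i) (e3L134 i) (Nat.ble 137216 i)
noncomputable def e3T130 (i : Nat) : Nat := Bool.rec (e3T128 i) (e3T129 i) (Nat.ble 136192 i)
noncomputable def e3T131 (i : Nat) : Nat := Bool.rec (e3T127 i) (e3T130 i) (Nat.ble 134144 i)
noncomputable def e3T132 (i : Nat) : Nat := Bool.rec (e3T124 i) (e3T131 i) (Nat.ble 130048 i)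
noncomputable def e3T133 (i : Nat) : Nat := Bool.rec (e3L136 i) (e3L137 i) (Nat.ble 140288 i)
noncomputable def e3T134 (i : Nat) : Nat := Bool.rec (e3L135 i) (e3T133 i) (Nat.ble 139264 i)
noncomputable def e3T135 (i : Nat) : Nat := Bool.rec (e3L138 i) (e3L139 i) (Nat.ble 142336 i)
noncomputable def e3T136 (i : Nat) : Nat := Bool.rec (e3L140 i) (e3L141 i) (Nat.ble 144384 i)
noncomputable def e3T137 (i : Nat) : Nat := Bool.rec (e3T135 i) (e3T136 i) (Nat.ble 143360 i)
noncomputable def e3T138 (i : Nat) : Nat := Bool.rec (e3T134 i) (e3T137 i) (Nat.ble 141312 i)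
noncomputable def e3T139 (i : Nat) : Nat := Bool.rec (e3L142 i) (e3L143 i) (Nat.ble 146432 i)
noncomputable def e3T140 (i : Nat) : Nat := Bool.rec (e3L144 i) (e3L145 i) (Nat.ble 148480 i)
noncomputable def e3T141 (i : Nat) : Nat := Bool.rec (e3T139 i) (e3T140 i) (Nat.ble 147456 i)
noncomputable def e3T142 (i : Nat) : Nat := Bool.rec (e3L146 i) (e3L147 i) (Nat.ble 150528 i)
noncomputable def e3T143 (i : Nat) : Nat := Bool.rec (e3L148 i) (e3L149 i) (Nat.ble 152576 i)
noncomputable def e3T144 (i : Nat) : Nat := Bool.rec (e3T142 i) (e3T143 i) (Nat.ble 151552 i)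
noncomputable def e3T145 (i : Nat) : Nat := Bool.rec (e3T141 i) (e3T144 i) (Nat.ble 149504 i)
noncomputable def e3T146 (i : Nat) : Nat := Bool.rec (e3T138 i) (e3T145 i) (Nat.ble 145408 i)
noncomputable def e3T147 (i : Nat) : Nat := Bool.rec (e3T132 i) (e3T146 i) (Nat.ble 138240 i)
noncomputable def e3T148 (i : Nat) : Nat := Bool.rec (e3L151 i) (e3L152 i) (Nat.ble 155648 i)
noncomputable def e3T149 (i : Nat) : Nat := Bool.rec (e3L150 i) (e3T148 i) (Nat.ble 154624 i)
noncomputable def e3T150 (i : Nat) : Nat := Bool.rec (e3L153 i) (e3L154 i) (Nat.ble 157696 i)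
noncomputable def e3T151 (i : Nat) : Nat := Bool.rec (e3L155 i) (e3L156 i) (Nat.ble 159744 i)
noncomputable def e3T152 (i : Nat) : Nat := Bool.rec (e3T150 i) (e3T151 i) (Nat.ble 158720 i)
noncomputable def e3T153 (i : Nat) : Nat := Bool.rec (e3T149 i) (e3T152 i) (Nat.ble 156672 i)
noncomputable def e3T154 (i : Nat) : Nat := Bool.rec (e3L157 i) (e3L158 i) (Nat.ble 161792 i)
noncomputable def e3T155 (i : Nat) : Nat := Bool.rec (e3L159 i) (e3L160 i) (Nat.ble 163840 i)
noncomputable def e3T156 (i : Nat) : Nat := Bool.rec (e3T154 i) (e3T155 i) (Nat.ble 162816 i)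
noncomputable def e3T157 (i : Nat) : Nat := Bool.rec (e3L161 i) (e3L162 i) (Nat.ble 165888 i)
noncomputable def e3T158 (i : Nat) : Nat := Bool.rec (e3L163 i) (e3L164 i) (Nat.ble 167936 i)
noncomputable def e3T159 (i : Nat) : Nat := Bool.rec (e3T157 i) (e3T158 i) (Nat.ble 166912 i)
noncomputable def e3T160 (i : Nat) : Nat := Bool.rec (e3T156 i) (e3T159 i) (Nat.ble 164864 i)
noncomputable def e3T161 (i : Nat) : Nat := Bool.rec (e3T153 i) (e3T160 i) (Nat.ble 160768 i)
noncomputable def e3T162 (i : Nat) : Nat := Bool.rec (e3L166 i) (e3L167 i) (Nat.ble 171008 i)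
noncomputable def e3T163 (i : Nat) : Nat := Bool.rec (e3L165 i) (e3T162 i) (Nat.ble 169984 i)
noncomputable def e3T164 (i : Nat) : Nat := Bool.rec (e3L168 i) (e3L169 i) (Nat.ble 173056 i)
noncomputable def e3T165 (i : Nat) : Nat := Bool.rec (e3L170 i) (e3L171 i) (Nat.ble 175104 i)
noncomputable def e3T166 (i : Nat) : Nat := Bool.rec (e3T164 i) (e3T165 i) (Nat.ble 174080 i)
noncomputable def e3T167 (i : Nat) : Nat := Bool.rec (e3T163 i) (e3T166 i) (Nat.ble 172032 i)
noncomputable def e3T168 (i : Nat) : Nat := Bool.rec (e3L172 i) (e3L173 i) (Nat.ble 177152 i)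
noncomputable def e3T169 (i : Nat) : Nat := Bool.rec (e3L174 i) (e3L175 i) (Nat.ble 179200 i)
noncomputable def e3T170 (i : Nat) : Nat := Bool.rec (e3T168 i) (e3T169 i) (Nat.ble 178176 i)
noncomputable def e3T171 (i : Nat) : Nat := Bool.rec (e3L176 i) (e3L177 i) (Nat.ble 181248 i)
noncomputable def e3T172 (i : Nat) : Nat := Bool.rec (e3L178 i) (e3L179 i) (Nat.ble 183296 i)
noncomputable def e3T173 (i : Nat) : Nat := Bool.rec (e3T171 i) (e3T172 i) (Nat.ble 182272 i)
noncomputable def e3T174 (i : Nat) : Nat := Bool.rec (e3T170 i) (e3T173 i) (Nat.ble 180224 i)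
noncomputable def e3T175 (i : Nat) : Nat := Bool.rec (e3T167 i) (e3T174 i) (Nat.ble 176128 i)
noncomputable def e3T176 (i : Nat) : Nat := Bool.rec (e3T161 i) (e3T175 i) (Nat.ble 168960 i)
noncomputable def e3T177 (i : Nat) : Nat := Bool.rec (e3T147 i) (e3T176 i) (Nat.ble 153600 i)
noncomputable def e3T178 (i : Nat) : Nat := Bool.rec (e3L181 i) (e3L182 i) (Nat.ble 186368 i)
noncomputable def e3T179 (i : Nat) : Nat := Bool.rec (e3L180 i) (e3T178 i) (Nat.ble 185344 i)
noncomputable def e3T180 (i : Nat) : Nat := Bool.rec (e3L183 i) (e3L184 i) (Nat.ble 188416 i)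
noncomputable def e3T181 (i : Nat) : Nat := Bool.rec (e3L185 i) (e3L186 i) (Nat.ble 190464 i)
noncomputable def e3T182 (i : Nat) : Nat := Bool.rec (e3T180 i) (e3T181 i) (Nat.ble 189440 i)
noncomputable def e3T183 (i : Nat) : Nat := Bool.rec (e3T179 i) (e3T182 i) (Nat.ble 187392 i)
noncomputable def e3T184 (i : Nat) : Nat := Bool.rec (e3L187 i) (e3L188 i) (Nat.ble 192512 i)
noncomputable def e3T185 (i : Nat) : Nat := Bool.rec (e3L189 i) (e3L190 i) (Nat.ble 194560 i)
noncomputable def e3T186 (i : Nat) : Nat := Bool.rec (e3T184 i) (e3T185 i) (Nat.ble 193536 i)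
noncomputable def e3T187 (i : Nat) : Nat := Bool.rec (e3L191 i) (e3L192 i) (Nat.ble 196608 i)
noncomputable def e3T188 (i : Nat) : Nat := Bool.rec (e3L193 i) (e3L194 i) (Nat.ble 198656 i)
noncomputable def e3T189 (i : Nat) : Nat := Bool.rec (e3T187 i) (e3T188 i) (Nat.ble 197632 i)
noncomputable def e3T190 (i : Nat) : Nat := Bool.rec (e3T186 i) (e3T189 i) (Nat.ble 195584 i)
noncomputable def e3T191 (i : Nat) : Nat := Bool.rec (e3T183 i) (e3T190 i) (Nat.ble 191488 i)
noncomputable def e3T192 (i : Nat) : Nat := Bool.rec (e3L196 i) (e3L197 i) (Nat.ble 201728 i)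
noncomputable def e3T193 (i : Nat) : Nat := Bool.rec (e3L195 i) (e3T192 i) (Nat.ble 200704 i)
noncomputable def e3T194 (i : Nat) : Nat := Bool.rec (e3L198 i) (e3L199 i) (Nat.ble 203776 i)
noncomputable def e3T195 (i : Nat) : Nat := Bool.rec (e3L200 i) (e3L201 i) (Nat.ble 205824 i)
noncomputable def e3T196 (i : Nat) : Nat := Bool.rec (e3T194 i) (e3T195 i) (Nat.ble 204800 i)
noncomputable def e3T197 (i : Nat) : Nat := Bool.rec (e3T193 i) (e3T196 i) (Nat.ble 202752 i)
noncomputable def e3T198 (i : Nat) : Nat := Bool.rec (e3L202 i) (e3L203 i) (Nat.ble 207872 i)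
noncomputable def e3T199 (i : Nat) : Nat := Bool.rec (e3L204 i) (e3L205 i) (Nat.ble 209920 i)
noncomputable def e3T200 (i : Nat) : Nat := Bool.rec (e3T198 i) (e3T199 i) (Nat.ble 208896 i)
noncomputable def e3T201 (i : Nat) : Nat := Bool.rec (e3L206 i) (e3L207 i) (Nat.ble 211968 i)
noncomputable def e3T202 (i : Nat) : Nat := Bool.rec (e3L208 i) (e3L209 i) (Nat.ble 214016 i)
noncomputable def e3T203 (i : Nat) : Nat := Bool.rec (e3T201 i) (e3T202 i) (Nat.ble 212992 i)
noncomputable def e3T204 (i : Nat) : Nat := Bool.rec (e3T200 i) (e3T203 i) (Nat.ble 210944 i)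
noncomputable def e3T205 (i : Nat) : Nat := Bool.rec (e3T197 i) (e3T204 i) (Nat.ble 206848 i)
noncomputable def e3T206 (i : Nat) : Nat := Bool.rec (e3T191 i) (e3T205 i) (Nat.ble 199680 i)
noncomputable def e3T207 (i : Nat) : Nat := Bool.rec (e3L211 i) (e3L212 i) (Nat.ble 217088 i)
noncomputable def e3T208 (i : Nat) : Nat := Bool.rec (e3L210 i) (e3T207 i) (Nat.ble 216064 i)
noncomputable def e3T209 (i : Nat) : Nat := Bool.rec (e3L213 i) (e3L214 i) (Nat.ble 219136 i)
noncomputable def e3T210 (i : Nat) : Nat := Bool.rec (e3L215 i) (e3L216 i) (Nat.ble 221184 i)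
noncomputable def e3T211 (i : Nat) : Nat := Bool.rec (e3T209 i) (e3T210 i) (Nat.ble 220160 i)
noncomputable def e3T212 (i : Nat) : Nat := Bool.rec (e3T208 i) (e3T211 i) (Nat.ble 218112 i)
noncomputable def e3T213 (i : Nat) : Nat := Bool.rec (e3L217 i) (e3L218 i) (Nat.ble 223232 i)
noncomputable def e3T214 (i : Nat) : Nat := Bool.rec (e3L219 i) (e3L220 i) (Nat.ble 225280 i)
noncomputable def e3T215 (i : Nat) : Nat := Bool.rec (e3T213 i) (e3T214 i) (Nat.ble 224256 i)
noncomputable def e3T216 (i : Nat) : Nat := Bool.rec (e3L221 i) (e3L222 i) (Nat.ble 227328 i)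
noncomputable def e3T217 (i : Nat) : Nat := Bool.rec (e3L223 i) (e3L224 i) (Nat.ble 229376 i)
noncomputable def e3T218 (i : Nat) : Nat := Bool.rec (e3T216 i) (e3T217 i) (Nat.ble 228352 i)
noncomputable def e3T219 (i : Nat) : Nat := Bool.rec (e3T215 i) (e3T218 i) (Nat.ble 226304 i)
noncomputable def e3T220 (i : Nat) : Nat := Bool.rec (e3T212 i) (e3T219 i) (Nat.ble 222208 i)
noncomputable def e3T221 (i : Nat) : Nat := Bool.rec (e3L226 i) (e3L227 i) (Nat.ble 232448 i)
noncomputable def e3T222 (i : Nat) : Nat := Bool.rec (e3L225 i) (e3T221 i) (Nat.ble 231424 i)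
noncomputable def e3T223 (i : Nat) : Nat := Bool.rec (e3L228 i) (e3L229 i) (Nat.ble 234496 i)
noncomputable def e3T224 (i : Nat) : Nat := Bool.rec (e3L230 i) (e3L231 i) (Nat.ble 236544 i)
noncomputable def e3T225 (i : Nat) : Nat := Bool.rec (e3T223 i) (e3T224 i) (Nat.ble 235520 i)
noncomputable def e3T226 (i : Nat) : Nat := Bool.rec (e3T222 i) (e3T225 i) (Nat.ble 233472 i)
noncomputable def e3T227 (i : Nat) : Nat := Bool.rec (e3L232 i) (e3L233 i) (Nat.ble 238592 i)
noncomputable def e3T228 (i : Nat) : Nat := Bool.rec (e3L234 i) (e3L235 i) (Nat.ble 240640 i)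
noncomputable def e3T229 (i : Nat) : Nat := Bool.rec (e3T227 i) (e3T228 i) (Nat.ble 239616 i)
noncomputable def e3T230 (i : Nat) : Nat := Bool.rec (e3L236 i) (e3L237 i) (Nat.ble 242688 i)
noncomputable def e3T231 (i : Nat) : Nat := Bool.rec (e3L238 i) (e3L239 i) (Nat.ble 244736 i)
noncomputable def e3T232 (i : Nat) : Nat := Bool.rec (e3T230 i) (e3T231 i) (Nat.ble 243712 i)
noncomputable def e3T233 (i : Nat) : Nat := Bool.rec (e3T229 i) (e3T232 i) (Nat.ble 241664 i)
noncomputable def e3T234 (i : Nat) : Nat := Bool.rec (e3T226 i) (e3T233 i) (Nat.ble 237568 i)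
noncomputable def e3T235 (i : Nat) : Nat := Bool.rec (e3T220 i) (e3T234 i) (Nat.ble 230400 i)
noncomputable def e3T236 (i : Nat) : Nat := Bool.rec (e3T206 i) (e3T235 i) (Nat.ble 215040 i)
noncomputable def e3T237 (i : Nat) : Nat := Bool.rec (e3T177 i) (e3T236 i) (Nat.ble 184320 i)
noncomputable def e3T238 (i : Nat) : Nat := Bool.rec (e3T118 i) (e3T237 i) (Nat.ble 122880 i)
noncomputable def e3T239 (i : Nat) : Nat := Bool.rec (e3L241 i) (e3L242 i) (Nat.ble 247808 i)
noncomputable def e3T240 (i : Nat) : Nat := Bool.rec (e3L240 i) (e3T239 i) (Nat.ble 246784 i)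
noncomputable def e3T241 (i : Nat) : Nat := Bool.rec (e3L243 i) (e3L244 i) (Nat.ble 249856 i)
noncomputable def e3T242 (i : Nat) : Nat := Bool.rec (e3L245 i) (e3L246 i) (Nat.ble 251904 i)
noncomputable def e3T243 (i : Nat) : Nat := Bool.rec (e3T241 i) (e3T242 i) (Nat.ble 250880 i)
noncomputable def e3T244 (i : Nat) : Nat := Bool.rec (e3T240 i) (e3T243 i) (Nat.ble 248832 i)
noncomputable def e3T245 (i : Nat) : Nat := Bool.rec (e3L247 i) (e3L248 i) (Nat.ble 253952 i)
noncomputable def e3T246 (i : Nat) : Nat := Bool.rec (e3L249 i) (e3L250 i) (Nat.ble 256000 i)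
noncomputable def e3T247 (i : Nat) : Nat := Bool.rec (e3T245 i) (e3T246 i) (Nat.ble 254976 i)
noncomputable def e3T248 (i : Nat) : Nat := Bool.rec (e3L251 i) (e3L252 i) (Nat.ble 258048 i)
noncomputable def e3T249 (i : Nat) : Nat := Bool.rec (e3L253 i) (e3L254 i) (Nat.ble 260096 i)
noncomputable def e3T250 (i : Nat) : Nat := Bool.rec (e3T248 i) (e3T249 i) (Nat.ble 259072 i)
noncomputable def e3T251 (i : Nat) : Nat := Bool.rec (e3T247 i) (e3T250 i) (Nat.ble 257024 i)
noncomputable def e3T252 (i : Nat) : Nat := Bool.rec (e3T244 i) (e3T251 i) (Nat.ble 252928 i)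
noncomputable def e3T253 (i : Nat) : Nat := Bool.rec (e3L256 i) (e3L257 i) (Nat.ble 263168 i)
noncomputable def e3T254 (i : Nat) : Nat := Bool.rec (e3L255 i) (e3T253 i) (Nat.ble 262144 i)
noncomputable def e3T255 (i : Nat) : Nat := Bool.rec (e3L258 i) (e3L259 i) (Nat.ble 265216 i)
noncomputable def e3T256 (i : Nat) : Nat := Bool.rec (e3L260 i) (e3L261 i) (Nat.ble 267264 i)
noncomputable def e3T257 (i : Nat) : Nat := Bool.rec (e3T255 i) (e3T256 i) (Nat.ble 266240 i)
noncomputable def e3T258 (i : Nat) : Nat := Bool.rec (e3T254 i) (e3T257 i) (Nat.ble 264192 i)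
noncomputable def e3T259 (i : Nat) : Nat := Bool.rec (e3L262 i) (e3L263 i) (Nat.ble 269312 i)
noncomputable def e3T260 (i : Nat) : Nat := Bool.rec (e3L264 i) (e3L265 i) (Nat.ble 271360 i)
noncomputable def e3T261 (i : Nat) : Nat := Bool.rec (e3T259 i) (e3T260 i) (Nat.ble 270336 i)
noncomputable def e3T262 (i : Nat) : Nat := Bool.rec (e3L266 i) (e3L267 i) (Nat.ble 273408 i)
noncomputable def e3T263 (i : Nat) : Nat := Bool.rec (e3L268 i) (e3L269 i) (Nat.ble 275456 i)
noncomputable def e3T264 (i : Nat) : Nat := Bool.rec (e3T262 i) (e3T263 i) (Nat.ble 274432 i)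
noncomputable def e3T265 (i : Nat) : Nat := Bool.rec (e3T261 i) (e3T264 i) (Nat.ble 272384 i)
noncomputable def e3T266 (i : Nat) : Nat := Bool.rec (e3T258 i) (e3T265 i) (Nat.ble 268288 i)
noncomputable def e3T267 (i : Nat) : Nat := Bool.rec (e3T252 i) (e3T266 i) (Nat.ble 261120 i)
noncomputable def e3T268 (i : Nat) : Nat := Bool.rec (e3L271 i) (e3L272 i) (Nat.ble 278528 i)
noncomputable def e3T269 (i : Nat) : Nat := Bool.rec (e3L270 i) (e3T268 i) (Nat.ble 277504 i)
noncomputable def e3T270 (i : Nat) : Nat := Bool.rec (e3L273 i) (e3L274 i) (Nat.ble 280576 i)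
noncomputable def e3T271 (i : Nat) : Nat := Bool.rec (e3L275 i) (e3L276 i) (Nat.ble 282624 i)
noncomputable def e3T272 (i : Nat) : Nat := Bool.rec (e3T270 i) (e3T271 i) (Nat.ble 281600 i)
noncomputable def e3T273 (i : Nat) : Nat := Bool.rec (e3T269 i) (e3T272 i) (Nat.ble 279552 i)
noncomputable def e3T274 (i : Nat) : Nat := Bool.rec (e3L277 i) (e3L278 i) (Nat.ble 284672 i)
noncomputable def e3T275 (i : Nat) : Nat := Bool.rec (e3L279 i) (e3L280 i) (Nat.ble 286720 i)
noncomputable def e3T276 (i : Nat) : Nat := Bool.rec (e3T274 i) (e3T275 i) (Nat.ble 285696 i)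
noncomputable def e3T277 (i : Nat) : Nat := Bool.rec (e3L281 i) (e3L282 i) (Nat.ble 288768 i)
noncomputable def e3T278 (i : Nat) : Nat := Bool.rec (e3L283 i) (e3L284 i) (Nat.ble 290816 i)
noncomputable def e3T279 (i : Nat) : Nat := Bool.rec (e3T277 i) (e3T278 i) (Nat.ble 289792 i)
noncomputable def e3T280 (i : Nat) : Nat := Bool.rec (e3T276 i) (e3T279 i) (Nat.ble 287744 i)
noncomputable def e3T281 (i : Nat) : Nat := Bool.rec (e3T273 i) (e3T280 i) (Nat.ble 283648 i)
noncomputable def e3T282 (i : Nat) : Nat := Bool.rec (e3L286 i) (e3L287 i) (Nat.ble 293888 i)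
noncomputable def e3T283 (i : Nat) : Nat := Bool.rec (e3L285 i) (e3T282 i) (Nat.ble 292864 i)
noncomputable def e3T284 (i : Nat) : Nat := Bool.rec (e3L288 i) (e3L289 i) (Nat.ble 295936 i)
noncomputable def e3T285 (i : Nat) : Nat := Bool.rec (e3L290 i) (e3L291 i) (Nat.ble 297984 i)
noncomputable def e3T286 (i : Nat) : Nat := Bool.rec (e3T284 i) (e3T285 i) (Nat.ble 296960 i)
noncomputable def e3T287 (i : Nat) : Nat := Bool.rec (e3T283 i) (e3T286 i) (Nat.ble 294912 i)
noncomputable def e3T288 (i : Nat) : Nat := Bool.rec (e3L292 i) (e3L293 i) (Nat.ble 300032 i)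
noncomputable def e3T289 (i : Nat) : Nat := Bool.rec (e3L294 i) (e3L295 i) (Nat.ble 302080 i)
noncomputable def e3T290 (i : Nat) : Nat := Bool.rec (e3T288 i) (e3T289 i) (Nat.ble 301056 i)
noncomputable def e3T291 (i : Nat) : Nat := Bool.rec (e3L296 i) (e3L297 i) (Nat.ble 304128 i)
noncomputable def e3T292 (i : Nat) : Nat := Bool.rec (e3L298 i) (e3L299 i) (Nat.ble 306176 i)
noncomputable def e3T293 (i : Nat) : Nat := Bool.rec (e3T291 i) (e3T292 i) (Nat.ble 305152 i)
noncomputable def e3T294 (i : Nat) : Nat := Bool.rec (e3T290 i) (e3T293 i) (Nat.ble 303104 i)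
noncomputable def e3T295 (i : Nat) : Nat := Bool.rec (e3T287 i) (e3T294 i) (Nat.ble 299008 i)
noncomputable def e3T296 (i : Nat) : Nat := Bool.rec (e3T281 i) (e3T295 i) (Nat.ble 291840 i)
noncomputable def e3T297 (i : Nat) : Nat := Bool.rec (e3T267 i) (e3T296 i) (Nat.ble 276480 i)
noncomputable def e3T298 (i : Nat) : Nat := Bool.rec (e3L301 i) (e3L302 i) (Nat.ble 309248 i)
noncomputable def e3T299 (i : Nat) : Nat := Bool.rec (e3L300 i) (e3T298 i) (Nat.ble 308224 i)
noncomputable def e3T300 (i : Nat) : Nat := Bool.rec (e3L303 i) (e3L304 i) (Nat.ble 311296 i)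
noncomputable def e3T301 (i : Nat) : Nat := Bool.rec (e3L305 i) (e3L306 i) (Nat.ble 313344 i)
noncomputable def e3T302 (i : Nat) : Nat := Bool.rec (e3T300 i) (e3T301 i) (Nat.ble 312320 i)
noncomputable def e3T303 (i : Nat) : Nat := Bool.rec (e3T299 i) (e3T302 i) (Nat.ble 310272 i)
noncomputable def e3T304 (i : Nat) : Nat := Bool.rec (e3L307 i) (e3L308 i) (Nat.ble 315392 i)
noncomputable def e3T305 (i : Nat) : Nat := Bool.rec (e3L309 i) (e3L310 i) (Nat.ble 317440 i)
noncomputable def e3T306 (i : Nat) : Nat := Bool.rec (e3T304 i) (e3T305 i) (Nat.ble 316416 i)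
noncomputable def e3T307 (i : Nat) : Nat := Bool.rec (e3L311 i) (e3L312 i) (Nat.ble 319488 i)
noncomputable def e3T308 (i : Nat) : Nat := Bool.rec (e3L313 i) (e3L314 i) (Nat.ble 321536 i)
noncomputable def e3T309 (i : Nat) : Nat := Bool.rec (e3T307 i) (e3T308 i) (Nat.ble 320512 i)
noncomputable def e3T310 (i : Nat) : Nat := Bool.rec (e3T306 i) (e3T309 i) (Nat.ble 318464 i)
noncomputable def e3T311 (i : Nat) : Nat := Bool.rec (e3T303 i) (e3T310 i) (Nat.ble 314368 i)
noncomputable def e3T312 (i : Nat) : Nat := Bool.rec (e3L316 i) (e3L317 i) (Nat.ble 324608 i)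
noncomputable def e3T313 (i : Nat) : Nat := Bool.rec (e3L315 i) (e3T312 i) (Nat.ble 323584 i)
noncomputable def e3T314 (i : Nat) : Nat := Bool.rec (e3L318 i) (e3L319 i) (Nat.ble 326656 i)
noncomputable def e3T315 (i : Nat) : Nat := Bool.rec (e3L320 i) (e3L321 i) (Nat.ble 328704 i)
noncomputable def e3T316 (i : Nat) : Nat := Bool.rec (e3T314 i) (e3T315 i) (Nat.ble 327680 i)
noncomputable def e3T317 (i : Nat) : Nat := Bool.rec (e3T313 i) (e3T316 i) (Nat.ble 325632 i)
noncomputable def e3T318 (i : Nat) : Nat := Bool.rec (e3L322 i) (e3L323 i) (Nat.ble 330752 i)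
noncomputable def e3T319 (i : Nat) : Nat := Bool.rec (e3L324 i) (e3L325 i) (Nat.ble 332800 i)
noncomputable def e3T320 (i : Nat) : Nat := Bool.rec (e3T318 i) (e3T319 i) (Nat.ble 331776 i)
noncomputable def e3T321 (i : Nat) : Nat := Bool.rec (e3L326 i) (e3L327 i) (Nat.ble 334848 i)
noncomputable def e3T322 (i : Nat) : Nat := Bool.rec (e3L328 i) (e3L329 i) (Nat.ble 336896 i)
noncomputable def e3T323 (i : Nat) : Nat := Bool.rec (e3T321 i) (e3T322 i) (Nat.ble 335872 i)
noncomputable def e3T324 (i : Nat) : Nat := Bool.rec (e3T320 i) (e3T323 i) (Nat.ble 333824 i)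
noncomputable def e3T325 (i : Nat) : Nat := Bool.rec (e3T317 i) (e3T324 i) (Nat.ble 329728 i)
noncomputable def e3T326 (i : Nat) : Nat := Bool.rec (e3T311 i) (e3T325 i) (Nat.ble 322560 i)
noncomputable def e3T327 (i : Nat) : Nat := Bool.rec (e3L331 i) (e3L332 i) (Nat.ble 339968 i)
noncomputable def e3T328 (i : Nat) : Nat := Bool.rec (e3L330 i) (e3T327 i) (Nat.ble 338944 i)
noncomputable def e3T329 (i : Nat) : Nat := Bool.rec (e3L333 i) (e3L334 i) (Nat.ble 342016 i)
noncomputable def e3T330 (i : Nat) : Nat := Bool.rec (e3L335 i) (e3L336 i) (Nat.ble 344064 i)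
noncomputable def e3T331 (i : Nat) : Nat := Bool.rec (e3T329 i) (e3T330 i) (Nat.ble 343040 i)
noncomputable def e3T332 (i : Nat) : Nat := Bool.rec (e3T328 i) (e3T331 i) (Nat.ble 340992 i)
noncomputable def e3T333 (i : Nat) : Nat := Bool.rec (e3L337 i) (e3L338 i) (Nat.ble 346112 i)
noncomputable def e3T334 (i : Nat) : Nat := Bool.rec (e3L339 i) (e3L340 i) (Nat.ble 348160 i)
noncomputable def e3T335 (i : Nat) : Nat := Bool.rec (e3T333 i) (e3T334 i) (Nat.ble 347136 i)
noncomputable def e3T336 (i : Nat) : Nat := Bool.rec (e3L341 i) (e3L342 i) (Nat.ble 350208 i)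
noncomputable def e3T337 (i : Nat) : Nat := Bool.rec (e3L343 i) (e3L344 i) (Nat.ble 352256 i)
noncomputable def e3T338 (i : Nat) : Nat := Bool.rec (e3T336 i) (e3T337 i) (Nat.ble 351232 i)
noncomputable def e3T339 (i : Nat) : Nat := Bool.rec (e3T335 i) (e3T338 i) (Nat.ble 349184 i)
noncomputable def e3T340 (i : Nat) : Nat := Bool.rec (e3T332 i) (e3T339 i) (Nat.ble 345088 i)
noncomputable def e3T341 (i : Nat) : Nat := Bool.rec (e3L346 i) (e3L347 i) (Nat.ble 355328 i)
noncomputable def e3T342 (i : Nat) : Nat := Bool.rec (e3L345 i) (e3T341 i) (Nat.ble 354304 i)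
noncomputable def e3T343 (i : Nat) : Nat := Bool.rec (e3L348 i) (e3L349 i) (Nat.ble 357376 i)
noncomputable def e3T344 (i : Nat) : Nat := Bool.rec (e3L350 i) (e3L351 i) (Nat.ble 359424 i)
noncomputable def e3T345 (i : Nat) : Nat := Bool.rec (e3T343 i) (e3T344 i) (Nat.ble 358400 i)
noncomputable def e3T346 (i : Nat) : Nat := Bool.rec (e3T342 i) (e3T345 i) (Nat.ble 356352 i)
noncomputable def e3T347 (i : Nat) : Nat := Bool.rec (e3L352 i) (e3L353 i) (Nat.ble 361472 i)
noncomputable def e3T348 (i : Nat) : Nat := Bool.rec (e3L354 i) (e3L355 i) (Nat.ble 363520 i)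
noncomputable def e3T349 (i : Nat) : Nat := Bool.rec (e3T347 i) (e3T348 i) (Nat.ble 362496 i)
noncomputable def e3T350 (i : Nat) : Nat := Bool.rec (e3L356 i) (e3L357 i) (Nat.ble 365568 i)
noncomputable def e3T351 (i : Nat) : Nat := Bool.rec (e3L358 i) (e3L359 i) (Nat.ble 367616 i)
noncomputable def e3T352 (i : Nat) : Nat := Bool.rec (e3T350 i) (e3T351 i) (Nat.ble 366592 i)
noncomputable def e3T353 (i : Nat) : Nat := Bool.rec (e3T349 i) (e3T352 i) (Nat.ble 364544 i)
noncomputable def e3T354 (i : Nat) : Nat := Bool.rec (e3T346 i) (e3T353 i) (Nat.ble 360448 i)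
noncomputable def e3T355 (i : Nat) : Nat := Bool.rec (e3T340 i) (e3T354 i) (Nat.ble 353280 i)
noncomputable def e3T356 (i : Nat) : Nat := Bool.rec (e3T326 i) (e3T355 i) (Nat.ble 337920 i)
noncomputable def e3T357 (i : Nat) : Nat := Bool.rec (e3T297 i) (e3T356 i) (Nat.ble 307200 i)
noncomputable def e3T358 (i : Nat) : Nat := Bool.rec (e3L361 i) (e3L362 i) (Nat.ble 370688 i)
noncomputable def e3T359 (i : Nat) : Nat := Bool.rec (e3L360 i) (e3T358 i) (Nat.ble 369664 i)
noncomputable def e3T360 (i : Nat) : Nat := Bool.rec (e3L363 i) (e3L364 i) (Nat.ble 372736 i)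
noncomputable def e3T361 (i : Nat) : Nat := Bool.rec (e3L365 i) (e3L366 i) (Nat.ble 374784 i)
noncomputable def e3T362 (i : Nat) : Nat := Bool.rec (e3T360 i) (e3T361 i) (Nat.ble 373760 i)
noncomputable def e3T363 (i : Nat) : Nat := Bool.rec (e3T359 i) (e3T362 i) (Nat.ble 371712 i)
noncomputable def e3T364 (i : Nat) : Nat := Bool.rec (e3L367 i) (e3L368 i) (Nat.ble 376832 i)
noncomputable def e3T365 (i : Nat) : Nat := Bool.rec (e3L369 i) (e3L370 i) (Nat.ble 378880 i)
noncomputable def e3T366 (i : Nat) : Nat := Bool.rec (e3T364 i) (e3T365 i) (Nat.ble 377856 i)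
noncomputable def e3T367 (i : Nat) : Nat := Bool.rec (e3L371 i) (e3L372 i) (Nat.ble 380928 i)
noncomputable def e3T368 (i : Nat) : Nat := Bool.rec (e3L373 i) (e3L374 i) (Nat.ble 382976 i)
noncomputable def e3T369 (i : Nat) : Nat := Bool.rec (e3T367 i) (e3T368 i) (Nat.ble 381952 i)
noncomputable def e3T370 (i : Nat) : Nat := Bool.rec (e3T366 i) (e3T369 i) (Nat.ble 379904 i)
noncomputable def e3T371 (i : Nat) : Nat := Bool.rec (e3T363 i) (e3T370 i) (Nat.ble 375808 i)
noncomputable def e3T372 (i : Nat) : Nat := Bool.rec (e3L376 i) (e3L377 i) (Nat.ble 386048 i)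
noncomputable def e3T373 (i : Nat) : Nat := Bool.rec (e3L375 i) (e3T372 i) (Nat.ble 385024 i)
noncomputable def e3T374 (i : Nat) : Nat := Bool.rec (e3L378 i) (e3L379 i) (Nat.ble 388096 i)
noncomputable def e3T375 (i : Nat) : Nat := Bool.rec (e3L380 i) (e3L381 i) (Nat.ble 390144 i)
noncomputable def e3T376 (i : Nat) : Nat := Bool.rec (e3T374 i) (e3T375 i) (Nat.ble 389120 i)
noncomputable def e3T377 (i : Nat) : Nat := Bool.rec (e3T373 i) (e3T376 i) (Nat.ble 387072 i)
noncomputable def e3T378 (i : Nat) : Nat := Bool.rec (e3L382 i) (e3L383 i) (Nat.ble 392192 i)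
noncomputable def e3T379 (i : Nat) : Nat := Bool.rec (e3L384 i) (e3L385 i) (Nat.ble 394240 i)
noncomputable def e3T380 (i : Nat) : Nat := Bool.rec (e3T378 i) (e3T379 i) (Nat.ble 393216 i)
noncomputable def e3T381 (i : Nat) : Nat := Bool.rec (e3L386 i) (e3L387 i) (Nat.ble 396288 i)
noncomputable def e3T382 (i : Nat) : Nat := Bool.rec (e3L388 i) (e3L389 i) (Nat.ble 398336 i)
noncomputable def e3T383 (i : Nat) : Nat := Bool.rec (e3T381 i) (e3T382 i) (Nat.ble 397312 i)
noncomputable def e3T384 (i : Nat) : Nat := Bool.rec (e3T380 i) (e3T383 i) (Nat.ble 395264 i)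
noncomputable def e3T385 (i : Nat) : Nat := Bool.rec (e3T377 i) (e3T384 i) (Nat.ble 391168 i)
noncomputable def e3T386 (i : Nat) : Nat := Bool.rec (e3T371 i) (e3T385 i) (Nat.ble 384000 i)
noncomputable def e3T387 (i : Nat) : Nat := Bool.rec (e3L391 i) (e3L392 i) (Nat.ble 401408 i)
noncomputable def e3T388 (i : Nat) : Nat := Bool.rec (e3L390 i) (e3T387 i) (Nat.ble 400384 i)
noncomputable def e3T389 (i : Nat) : Nat := Bool.rec (e3L393 i) (e3L394 i) (Nat.ble 403456 i)
noncomputable def e3T390 (i : Nat) : Nat := Bool.rec (e3L395 i) (e3L396 i) (Nat.ble 405504 i)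
noncomputable def e3T391 (i : Nat) : Nat := Bool.rec (e3T389 i) (e3T390 i) (Nat.ble 404480 i)
noncomputable def e3T392 (i : Nat) : Nat := Bool.rec (e3T388 i) (e3T391 i) (Nat.ble 402432 i)
noncomputable def e3T393 (i : Nat) : Nat := Bool.rec (e3L397 i) (e3L398 i) (Nat.ble 407552 i)
noncomputable def e3T394 (i : Nat) : Nat := Bool.rec (e3L399 i) (e3L400 i) (Nat.ble 409600 i)
noncomputable def e3T395 (i : Nat) : Nat := Bool.rec (e3T393 i) (e3T394 i) (Nat.ble 408576 i)
noncomputable def e3T396 (i : Nat) : Nat := Bool.rec (e3L401 i) (e3L402 i) (Nat.ble 411648 i)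
noncomputable def e3T397 (i : Nat) : Nat := Bool.rec (e3L403 i) (e3L404 i) (Nat.ble 413696 i)
noncomputable def e3T398 (i : Nat) : Nat := Bool.rec (e3T396 i) (e3T397 i) (Nat.ble 412672 i)
noncomputable def e3T399 (i : Nat) : Nat := Bool.rec (e3T395 i) (e3T398 i) (Nat.ble 410624 i)
noncomputable def e3T400 (i : Nat) : Nat := Bool.rec (e3T392 i) (e3T399 i) (Nat.ble 406528 i)
noncomputable def e3T401 (i : Nat) : Nat := Bool.rec (e3L406 i) (e3L407 i) (Nat.ble 416768 i)
noncomputable def e3T402 (i : Nat) : Nat := Bool.rec (e3L405 i) (e3T401 i) (Nat.ble 415744 i)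
noncomputable def e3T403 (i : Nat) : Nat := Bool.rec (e3L408 i) (e3L409 i) (Nat.ble 418816 i)
noncomputable def e3T404 (i : Nat) : Nat := Bool.rec (e3L410 i) (e3L411 i) (Nat.ble 420864 i)
noncomputable def e3T405 (i : Nat) : Nat := Bool.rec (e3T403 i) (e3T404 i) (Nat.ble 419840 i)
noncomputable def e3T406 (i : Nat) : Nat := Bool.rec (e3T402 i) (e3T405 i) (Nat.ble 417792 i)
noncomputable def e3T407 (i : Nat) : Nat := Bool.rec (e3L412 i) (e3L413 i) (Nat.ble 422912 i)
noncomputable def e3T408 (i : Nat) : Nat := Bool.rec (e3L414 i) (e3L415 i) (Nat.ble 424960 i)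
noncomputable def e3T409 (i : Nat) : Nat := Bool.rec (e3T407 i) (e3T408 i) (Nat.ble 423936 i)
noncomputable def e3T410 (i : Nat) : Nat := Bool.rec (e3L416 i) (e3L417 i) (Nat.ble 427008 i)
noncomputable def e3T411 (i : Nat) : Nat := Bool.rec (e3L418 i) (e3L419 i) (Nat.ble 429056 i)
noncomputable def e3T412 (i : Nat) : Nat := Bool.rec (e3T410 i) (e3T411 i) (Nat.ble 428032 i)
noncomputable def e3T413 (i : Nat) : Nat := Bool.rec (e3T409 i) (e3T412 i) (Nat.ble 425984 i)
noncomputable def e3T414 (i : Nat) : Nat := Bool.rec (e3T406 i) (e3T413 i) (Nat.ble 421888 i)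
noncomputable def e3T415 (i : Nat) : Nat := Bool.rec (e3T400 i) (e3T414 i) (Nat.ble 414720 i)
noncomputable def e3T416 (i : Nat) : Nat := Bool.rec (e3T386 i) (e3T415 i) (Nat.ble 399360 i)
noncomputable def e3T417 (i : Nat) : Nat := Bool.rec (e3L421 i) (e3L422 i) (Nat.ble 432128 i)
noncomputable def e3T418 (i : Nat) : Nat := Bool.rec (e3L420 i) (e3T417 i) (Nat.ble 431104 i)
noncomputable def e3T419 (i : Nat) : Nat := Bool.rec (e3L423 i) (e3L424 i) (Nat.ble 434176 i)
noncomputable def e3T420 (i : Nat) : Nat := Bool.rec (e3L425 i) (e3L426 i) (Nat.ble 436224 i)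
noncomputable def e3T421 (i : Nat) : Nat := Bool.rec (e3T419 i) (e3T420 i) (Nat.ble 435200 i)
noncomputable def e3T422 (i : Nat) : Nat := Bool.rec (e3T418 i) (e3T421 i) (Nat.ble 433152 i)
noncomputable def e3T423 (i : Nat) : Nat := Bool.rec (e3L427 i) (e3L428 i) (Nat.ble 438272 i)
noncomputable def e3T424 (i : Nat) : Nat := Bool.rec (e3L429 i) (e3L430 i) (Nat.ble 440320 i)
noncomputable def e3T425 (i : Nat) : Nat := Bool.rec (e3T423 i) (e3T424 i) (Nat.ble 439296 i)
noncomputable def e3T426 (i : Nat) : Nat := Bool.rec (e3L431 i) (e3L432 i) (Nat.ble 442368 i)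
noncomputable def e3T427 (i : Nat) : Nat := Bool.rec (e3L433 i) (e3L434 i) (Nat.ble 444416 i)
noncomputable def e3T428 (i : Nat) : Nat := Bool.rec (e3T426 i) (e3T427 i) (Nat.ble 443392 i)
noncomputable def e3T429 (i : Nat) : Nat := Bool.rec (e3T425 i) (e3T428 i) (Nat.ble 441344 i)
noncomputable def e3T430 (i : Nat) : Nat := Bool.rec (e3T422 i) (e3T429 i) (Nat.ble 437248 i)
noncomputable def e3T431 (i : Nat) : Nat := Bool.rec (e3L436 i) (e3L437 i) (Nat.ble 447488 i)
noncomputable def e3T432 (i : Nat) : Nat := Bool.rec (e3L435 i) (e3T431 i) (Nat.ble 446464 i)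
noncomputable def e3T433 (i : Nat) : Nat := Bool.rec (e3L438 i) (e3L439 i) (Nat.ble 449536 i)
noncomputable def e3T434 (i : Nat) : Nat := Bool.rec (e3L440 i) (e3L441 i) (Nat.ble 451584 i)
noncomputable def e3T435 (i : Nat) : Nat := Bool.rec (e3T433 i) (e3T434 i) (Nat.ble 450560 i)
noncomputable def e3T436 (i : Nat) : Nat := Bool.rec (e3T432 i) (e3T435 i) (Nat.ble 448512 i)
noncomputable def e3T437 (i : Nat) : Nat := Bool.rec (e3L442 i) (e3L443 i) (Nat.ble 453632 i)
noncomputable def e3T438 (i : Nat) : Nat := Bool.rec (e3L444 i) (e3L445 i) (Nat.ble 455680 i)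
noncomputable def e3T439 (i : Nat) : Nat := Bool.rec (e3T437 i) (e3T438 i) (Nat.ble 454656 i)
noncomputable def e3T440 (i : Nat) : Nat := Bool.rec (e3L446 i) (e3L447 i) (Nat.ble 457728 i)
noncomputable def e3T441 (i : Nat) : Nat := Bool.rec (e3L448 i) (e3L449 i) (Nat.ble 459776 i)
noncomputable def e3T442 (i : Nat) : Nat := Bool.rec (e3T440 i) (e3T441 i) (Nat.ble 458752 i)
noncomputable def e3T443 (i : Nat) : Nat := Bool.rec (e3T439 i) (e3T442 i) (Nat.ble 456704 i)
noncomputable def e3T444 (i : Nat) : Nat := Bool.rec (e3T436 i) (e3T443 i) (Nat.ble 452608 i)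
noncomputable def e3T445 (i : Nat) : Nat := Bool.rec (e3T430 i) (e3T444 i) (Nat.ble 445440 i)
noncomputable def e3T446 (i : Nat) : Nat := Bool.rec (e3L451 i) (e3L452 i) (Nat.ble 462848 i)
noncomputable def e3T447 (i : Nat) : Nat := Bool.rec (e3L450 i) (e3T446 i) (Nat.ble 461824 i)
noncomputable def e3T448 (i : Nat) : Nat := Bool.rec (e3L453 i) (e3L454 i) (Nat.ble 464896 i)
noncomputable def e3T449 (i : Nat) : Nat := Bool.rec (e3L455 i) (e3L456 i) (Nat.ble 466944 i)
noncomputable def e3T450 (i : Nat) : Nat := Bool.rec (e3T448 i) (e3T449 i) (Nat.ble 465920 i)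
noncomputable def e3T451 (i : Nat) : Nat := Bool.rec (e3T447 i) (e3T450 i) (Nat.ble 463872 i)
noncomputable def e3T452 (i : Nat) : Nat := Bool.rec (e3L457 i) (e3L458 i) (Nat.ble 468992 i)
noncomputable def e3T453 (i : Nat) : Nat := Bool.rec (e3L459 i) (e3L460 i) (Nat.ble 471040 i)
noncomputable def e3T454 (i : Nat) : Nat := Bool.rec (e3T452 i) (e3T453 i) (Nat.ble 470016 i)
noncomputable def e3T455 (i : Nat) : Nat := Bool.rec (e3L461 i) (e3L462 i) (Nat.ble 473088 i)
noncomputable def e3T456 (i : Nat) : Nat := Bool.rec (e3L463 i) (e3L464 i) (Nat.ble 475136 i)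
noncomputable def e3T457 (i : Nat) : Nat := Bool.rec (e3T455 i) (e3T456 i) (Nat.ble 474112 i)
noncomputable def e3T458 (i : Nat) : Nat := Bool.rec (e3T454 i) (e3T457 i) (Nat.ble 472064 i)
noncomputable def e3T459 (i : Nat) : Nat := Bool.rec (e3T451 i) (e3T458 i) (Nat.ble 467968 i)
noncomputable def e3T460 (i : Nat) : Nat := Bool.rec (e3L466 i) (e3L467 i) (Nat.ble 478208 i)
noncomputable def e3T461 (i : Nat) : Nat := Bool.rec (e3L465 i) (e3T460 i) (Nat.ble 477184 i)
noncomputable def e3T462 (i : Nat) : Nat := Bool.rec (e3L468 i) (e3L469 i) (Nat.ble 480256 i)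
noncomputable def e3T463 (i : Nat) : Nat := Bool.rec (e3L470 i) (e3L471 i) (Nat.ble 482304 i)
noncomputable def e3T464 (i : Nat) : Nat := Bool.rec (e3T462 i) (e3T463 i) (Nat.ble 481280 i)
noncomputable def e3T465 (i : Nat) : Nat := Bool.rec (e3T461 i) (e3T464 i) (Nat.ble 479232 i)
noncomputable def e3T466 (i : Nat) : Nat := Bool.rec (e3L472 i) (e3L473 i) (Nat.ble 484352 i)
noncomputable def e3T467 (i : Nat) : Nat := Bool.rec (e3L474 i) (e3L475 i) (Nat.ble 486400 i)
noncomputable def e3T468 (i : Nat) : Nat := Bool.rec (e3T466 i) (e3T467 i) (Nat.ble 485376 i)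
noncomputable def e3T469 (i : Nat) : Nat := Bool.rec (e3L476 i) (e3L477 i) (Nat.ble 488448 i)
noncomputable def e3T470 (i : Nat) : Nat := Bool.rec (e3L478 i) (e3L479 i) (Nat.ble 490496 i)
noncomputable def e3T471 (i : Nat) : Nat := Bool.rec (e3T469 i) (e3T470 i) (Nat.ble 489472 i)
noncomputable def e3T472 (i : Nat) : Nat := Bool.rec (e3T468 i) (e3T471 i) (Nat.ble 487424 i)
noncomputable def e3T473 (i : Nat) : Nat := Bool.rec (e3T465 i) (e3T472 i) (Nat.ble 483328 i)
noncomputable def e3T474 (i : Nat) : Nat := Bool.rec (e3T459 i) (e3T473 i) (Nat.ble 476160 i)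
noncomputable def e3T475 (i : Nat) : Nat := Bool.rec (e3T445 i) (e3T474 i) (Nat.ble 460800 i)
noncomputable def e3T476 (i : Nat) : Nat := Bool.rec (e3T416 i) (e3T475 i) (Nat.ble 430080 i)
noncomputable def e3T477 (i : Nat) : Nat := Bool.rec (e3T357 i) (e3T476 i) (Nat.ble 368640 i)
noncomputable def e3T478 (i : Nat) : Nat := Bool.rec (e3T238 i) (e3T477 i) (Nat.ble 245760 i)
noncomputable def e3T479 (i : Nat) : Nat := Bool.rec (e3L481 i) (e3L482 i) (Nat.ble 493568 i)
noncomputable def e3T480 (i : Nat) : Nat := Bool.rec (e3L480 i) (e3T479 i) (Nat.ble 492544 i)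
noncomputable def e3T481 (i : Nat) : Nat := Bool.rec (e3L483 i) (e3L484 i) (Nat.ble 495616 i)
noncomputable def e3T482 (i : Nat) : Nat := Bool.rec (e3L485 i) (e3L486 i) (Nat.ble 497664 i)
noncomputable def e3T483 (i : Nat) : Nat := Bool.rec (e3T481 i) (e3T482 i) (Nat.ble 496640 i)
noncomputable def e3T484 (i : Nat) : Nat := Bool.rec (e3T480 i) (e3T483 i) (Nat.ble 494592 i)
noncomputable def e3T485 (i : Nat) : Nat := Bool.rec (e3L487 i) (e3L488 i) (Nat.ble 499712 i)
noncomputable def e3T486 (i : Nat) : Nat := Bool.rec (e3L489 i) (e3L490 i) (Nat.ble 501760 i)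
noncomputable def e3T487 (i : Nat) : Nat := Bool.rec (e3T485 i) (e3T486 i) (Nat.ble 500736 i)
noncomputable def e3T488 (i : Nat) : Nat := Bool.rec (e3L491 i) (e3L492 i) (Nat.ble 503808 i)
noncomputable def e3T489 (i : Nat) : Nat := Bool.rec (e3L493 i) (e3L494 i) (Nat.ble 505856 i)
noncomputable def e3T490 (i : Nat) : Nat := Bool.rec (e3T488 i) (e3T489 i) (Nat.ble 504832 i)
noncomputable def e3T491 (i : Nat) : Nat := Bool.rec (e3T487 i) (e3T490 i) (Nat.ble 502784 i)
noncomputable def e3T492 (i : Nat) : Nat := Bool.rec (e3T484 i) (e3T491 i) (Nat.ble 498688 i)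
noncomputable def e3T493 (i : Nat) : Nat := Bool.rec (e3L496 i) (e3L497 i) (Nat.ble 508928 i)
noncomputable def e3T494 (i : Nat) : Nat := Bool.rec (e3L495 i) (e3T493 i) (Nat.ble 507904 i)
noncomputable def e3T495 (i : Nat) : Nat := Bool.rec (e3L498 i) (e3L499 i) (Nat.ble 510976 i)
noncomputable def e3T496 (i : Nat) : Nat := Bool.rec (e3L500 i) (e3L501 i) (Nat.ble 513024 i)
noncomputable def e3T497 (i : Nat) : Nat := Bool.rec (e3T495 i) (e3T496 i) (Nat.ble 512000 i)
noncomputable def e3T498 (i : Nat) : Nat := Bool.rec (e3T494 i) (e3T497 i) (Nat.ble 509952 i)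
noncomputable def e3T499 (i : Nat) : Nat := Bool.rec (e3L502 i) (e3L503 i) (Nat.ble 515072 i)
noncomputable def e3T500 (i : Nat) : Nat := Bool.rec (e3L504 i) (e3L505 i) (Nat.ble 517120 i)
noncomputable def e3T501 (i : Nat) : Nat := Bool.rec (e3T499 i) (e3T500 i) (Nat.ble 516096 i)
noncomputable def e3T502 (i : Nat) : Nat := Bool.rec (e3L506 i) (e3L507 i) (Nat.ble 519168 i)
noncomputable def e3T503 (i : Nat) : Nat := Bool.rec (e3L508 i) (e3L509 i) (Nat.ble 521216 i)
noncomputable def e3T504 (i : Nat) : Nat := Bool.rec (e3T502 i) (e3T503 i) (Nat.ble 520192 i)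
noncomputable def e3T505 (i : Nat) : Nat := Bool.rec (e3T501 i) (e3T504 i) (Nat.ble 518144 i)
noncomputable def e3T506 (i : Nat) : Nat := Bool.rec (e3T498 i) (e3T505 i) (Nat.ble 514048 i)
noncomputable def e3T507 (i : Nat) : Nat := Bool.rec (e3T492 i) (e3T506 i) (Nat.ble 506880 i)
noncomputable def e3T508 (i : Nat) : Nat := Bool.rec (e3L511 i) (e3L512 i) (Nat.ble 524288 i)
noncomputable def e3T509 (i : Nat) : Nat := Bool.rec (e3L510 i) (e3T508 i) (Nat.ble 523264 i)
noncomputable def e3T510 (i : Nat) : Nat := Bool.rec (e3L513 i) (e3L514 i) (Nat.ble 526336 i)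
noncomputable def e3T511 (i : Nat) : Nat := Bool.rec (e3L515 i) (e3L516 i) (Nat.ble 528384 i)
noncomputable def e3T512 (i : Nat) : Nat := Bool.rec (e3T510 i) (e3T511 i) (Nat.ble 527360 i)
noncomputable def e3T513 (i : Nat) : Nat := Bool.rec (e3T509 i) (e3T512 i) (Nat.ble 525312 i)
noncomputable def e3T514 (i : Nat) : Nat := Bool.rec (e3L517 i) (e3L518 i) (Nat.ble 530432 i)
noncomputable def e3T515 (i : Nat) : Nat := Bool.rec (e3L519 i) (e3L520 i) (Nat.ble 532480 i)
noncomputable def e3T516 (i : Nat) : Nat := Bool.rec (e3T514 i) (e3T515 i) (Nat.ble 531456 i)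
noncomputable def e3T517 (i : Nat) : Nat := Bool.rec (e3L521 i) (e3L522 i) (Nat.ble 534528 i)
noncomputable def e3T518 (i : Nat) : Nat := Bool.rec (e3L523 i) (e3L524 i) (Nat.ble 536576 i)
noncomputable def e3T519 (i : Nat) : Nat := Bool.rec (e3T517 i) (e3T518 i) (Nat.ble 535552 i)
noncomputable def e3T520 (i : Nat) : Nat := Bool.rec (e3T516 i) (e3T519 i) (Nat.ble 533504 i)
noncomputable def e3T521 (i : Nat) : Nat := Bool.rec (e3T513 i) (e3T520 i) (Nat.ble 529408 i)
noncomputable def e3T522 (i : Nat) : Nat := Bool.rec (e3L526 i) (e3L527 i) (Nat.ble 539648 i)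
noncomputable def e3T523 (i : Nat) : Nat := Bool.rec (e3L525 i) (e3T522 i) (Nat.ble 538624 i)
noncomputable def e3T524 (i : Nat) : Nat := Bool.rec (e3L528 i) (e3L529 i) (Nat.ble 541696 i)
noncomputable def e3T525 (i : Nat) : Nat := Bool.rec (e3L530 i) (e3L531 i) (Nat.ble 543744 i)
noncomputable def e3T526 (i : Nat) : Nat := Bool.rec (e3T524 i) (e3T525 i) (Nat.ble 542720 i)
noncomputable def e3T527 (i : Nat) : Nat := Bool.rec (e3T523 i) (e3T526 i) (Nat.ble 540672 i)
noncomputable def e3T528 (i : Nat) : Nat := Bool.rec (e3L532 i) (e3L533 i) (Nat.ble 545792 i)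
noncomputable def e3T529 (i : Nat) : Nat := Bool.rec (e3L534 i) (e3L535 i) (Nat.ble 547840 i)
noncomputable def e3T530 (i : Nat) : Nat := Bool.rec (e3T528 i) (e3T529 i) (Nat.ble 546816 i)
noncomputable def e3T531 (i : Nat) : Nat := Bool.rec (e3L536 i) (e3L537 i) (Nat.ble 549888 i)
noncomputable def e3T532 (i : Nat) : Nat := Bool.rec (e3L538 i) (e3L539 i) (Nat.ble 551936 i)
noncomputable def e3T533 (i : Nat) : Nat := Bool.rec (e3T531 i) (e3T532 i) (Nat.ble 550912 i)
noncomputable def e3T534 (i : Nat) : Nat := Bool.rec (e3T530 i) (e3T533 i) (Nat.ble 548864 i)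
noncomputable def e3T535 (i : Nat) : Nat := Bool.rec (e3T527 i) (e3T534 i) (Nat.ble 544768 i)
noncomputable def e3T536 (i : Nat) : Nat := Bool.rec (e3T521 i) (e3T535 i) (Nat.ble 537600 i)
noncomputable def e3T537 (i : Nat) : Nat := Bool.rec (e3T507 i) (e3T536 i) (Nat.ble 522240 i)
noncomputable def e3T538 (i : Nat) : Nat := Bool.rec (e3L541 i) (e3L542 i) (Nat.ble 555008 i)
noncomputable def e3T539 (i : Nat) : Nat := Bool.rec (e3L540 i) (e3T538 i) (Nat.ble 553984 i)
noncomputable def e3T540 (i : Nat) : Nat := Bool.rec (e3L543 i) (e3L544 i) (Nat.ble 557056 i)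
noncomputable def e3T541 (i : Nat) : Nat := Bool.rec (e3L545 i) (e3L546 i) (Nat.ble 559104 i)
noncomputable def e3T542 (i : Nat) : Nat := Bool.rec (e3T540 i) (e3T541 i) (Nat.ble 558080 i)
noncomputable def e3T543 (i : Nat) : Nat := Bool.rec (e3T539 i) (e3T542 i) (Nat.ble 556032 i)
noncomputable def e3T544 (i : Nat) : Nat := Bool.rec (e3L547 i) (e3L548 i) (Nat.ble 561152 i)
noncomputable def e3T545 (i : Nat) : Nat := Bool.rec (e3L549 i) (e3L550 i) (Nat.ble 563200 i)
noncomputable def e3T546 (i : Nat) : Nat := Bool.rec (e3T544 i) (e3T545 i) (Nat.ble 562176 i)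
noncomputable def e3T547 (i : Nat) : Nat := Bool.rec (e3L551 i) (e3L552 i) (Nat.ble 565248 i)
noncomputable def e3T548 (i : Nat) : Nat := Bool.rec (e3L553 i) (e3L554 i) (Nat.ble 567296 i)
noncomputable def e3T549 (i : Nat) : Nat := Bool.rec (e3T547 i) (e3T548 i) (Nat.ble 566272 i)
noncomputable def e3T550 (i : Nat) : Nat := Bool.rec (e3T546 i) (e3T549 i) (Nat.ble 564224 i)
noncomputable def e3T551 (i : Nat) : Nat := Bool.rec (e3T543 i) (e3T550 i) (Nat.ble 560128 i)
noncomputable def e3T552 (i : Nat) : Nat := Bool.rec (e3L556 i) (e3L557 i) (Nat.ble 570368 i)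
noncomputable def e3T553 (i : Nat) : Nat := Bool.rec (e3L555 i) (e3T552 i) (Nat.ble 569344 i)
noncomputable def e3T554 (i : Nat) : Nat := Bool.rec (e3L558 i) (e3L559 i) (Nat.ble 572416 i)
noncomputable def e3T555 (i : Nat) : Nat := Bool.rec (e3L560 i) (e3L561 i) (Nat.ble 574464 i)
noncomputable def e3T556 (i : Nat) : Nat := Bool.rec (e3T554 i) (e3T555 i) (Nat.ble 573440 i)
noncomputable def e3T557 (i : Nat) : Nat := Bool.rec (e3T553 i) (e3T556 i) (Nat.ble 571392 i)
noncomputable def e3T558 (i : Nat) : Nat := Bool.rec (e3L562 i) (e3L563 i) (Nat.ble 576512 i)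
noncomputable def e3T559 (i : Nat) : Nat := Bool.rec (e3L564 i) (e3L565 i) (Nat.ble 578560 i)
noncomputable def e3T560 (i : Nat) : Nat := Bool.rec (e3T558 i) (e3T559 i) (Nat.ble 577536 i)
noncomputable def e3T561 (i : Nat) : Nat := Bool.rec (e3L566 i) (e3L567 i) (Nat.ble 580608 i)
noncomputable def e3T562 (i : Nat) : Nat := Bool.rec (e3L568 i) (e3L569 i) (Nat.ble 582656 i)
noncomputable def e3T563 (i : Nat) : Nat := Bool.rec (e3T561 i) (e3T562 i) (Nat.ble 581632 i)
noncomputable def e3T564 (i : Nat) : Nat := Bool.rec (e3T560 i) (e3T563 i) (Nat.ble 579584 i)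
noncomputable def e3T565 (i : Nat) : Nat := Bool.rec (e3T557 i) (e3T564 i) (Nat.ble 575488 i)
noncomputable def e3T566 (i : Nat) : Nat := Bool.rec (e3T551 i) (e3T565 i) (Nat.ble 568320 i)
noncomputable def e3T567 (i : Nat) : Nat := Bool.rec (e3L571 i) (e3L572 i) (Nat.ble 585728 i)
noncomputable def e3T568 (i : Nat) : Nat := Bool.rec (e3L570 i) (e3T567 i) (Nat.ble 584704 i)
noncomputable def e3T569 (i : Nat) : Nat := Bool.rec (e3L573 i) (e3L574 i) (Nat.ble 587776 i)
noncomputable def e3T570 (i : Nat) : Nat := Bool.rec (e3L575 i) (e3L576 i) (Nat.ble 589824 i)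
noncomputable def e3T571 (i : Nat) : Nat := Bool.rec (e3T569 i) (e3T570 i) (Nat.ble 588800 i)
noncomputable def e3T572 (i : Nat) : Nat := Bool.rec (e3T568 i) (e3T571 i) (Nat.ble 586752 i)
noncomputable def e3T573 (i : Nat) : Nat := Bool.rec (e3L577 i) (e3L578 i) (Nat.ble 591872 i)
noncomputable def e3T574 (i : Nat) : Nat := Bool.rec (e3L579 i) (e3L580 i) (Nat.ble 593920 i)
noncomputable def e3T575 (i : Nat) : Nat := Bool.rec (e3T573 i) (e3T574 i) (Nat.ble 592896 i)
noncomputable def e3T576 (i : Nat) : Nat := Bool.rec (e3L581 i) (e3L582 i) (Nat.ble 595968 i)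
noncomputable def e3T577 (i : Nat) : Nat := Bool.rec (e3L583 i) (e3L584 i) (Nat.ble 598016 i)
noncomputable def e3T578 (i : Nat) : Nat := Bool.rec (e3T576 i) (e3T577 i) (Nat.ble 596992 i)
noncomputable def e3T579 (i : Nat) : Nat := Bool.rec (e3T575 i) (e3T578 i) (Nat.ble 594944 i)
noncomputable def e3T580 (i : Nat) : Nat := Bool.rec (e3T572 i) (e3T579 i) (Nat.ble 590848 i)
noncomputable def e3T581 (i : Nat) : Nat := Bool.rec (e3L586 i) (e3L587 i) (Nat.ble 601088 i)
noncomputable def e3T582 (i : Nat) : Nat := Bool.rec (e3L585 i) (e3T581 i) (Nat.ble 600064 i)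
noncomputable def e3T583 (i : Nat) : Nat := Bool.rec (e3L588 i) (e3L589 i) (Nat.ble 603136 i)
noncomputable def e3T584 (i : Nat) : Nat := Bool.rec (e3L590 i) (e3L591 i) (Nat.ble 605184 i)
noncomputable def e3T585 (i : Nat) : Nat := Bool.rec (e3T583 i) (e3T584 i) (Nat.ble 604160 i)
noncomputable def e3T586 (i : Nat) : Nat := Bool.rec (e3T582 i) (e3T585 i) (Nat.ble 602112 i)
noncomputable def e3T587 (i : Nat) : Nat := Bool.rec (e3L592 i) (e3L593 i) (Nat.ble 607232 i)
noncomputable def e3T588 (i : Nat) : Nat := Bool.rec (e3L594 i) (e3L595 i) (Nat.ble 609280 i)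
noncomputable def e3T589 (i : Nat) : Nat := Bool.rec (e3T587 i) (e3T588 i) (Nat.ble 608256 i)
noncomputable def e3T590 (i : Nat) : Nat := Bool.rec (e3L596 i) (e3L597 i) (Nat.ble 611328 i)
noncomputable def e3T591 (i : Nat) : Nat := Bool.rec (e3L598 i) (e3L599 i) (Nat.ble 613376 i)
noncomputable def e3T592 (i : Nat) : Nat := Bool.rec (e3T590 i) (e3T591 i) (Nat.ble 612352 i)
noncomputable def e3T593 (i : Nat) : Nat := Bool.rec (e3T589 i) (e3T592 i) (Nat.ble 610304 i)
noncomputable def e3T594 (i : Nat) : Nat := Bool.rec (e3T586 i) (e3T593 i) (Nat.ble 606208 i)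
noncomputable def e3T595 (i : Nat) : Nat := Bool.rec (e3T580 i) (e3T594 i) (Nat.ble 599040 i)
noncomputable def e3T596 (i : Nat) : Nat := Bool.rec (e3T566 i) (e3T595 i) (Nat.ble 583680 i)
noncomputable def e3T597 (i : Nat) : Nat := Bool.rec (e3T537 i) (e3T596 i) (Nat.ble 552960 i)
noncomputable def e3T598 (i : Nat) : Nat := Bool.rec (e3L601 i) (e3L602 i) (Nat.ble 616448 i)
noncomputable def e3T599 (i : Nat) : Nat := Bool.rec (e3L600 i) (e3T598 i) (Nat.ble 615424 i)
noncomputable def e3T600 (i : Nat) : Nat := Bool.rec (e3L603 i) (e3L604 i) (Nat.ble 618496 i)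
noncomputable def e3T601 (i : Nat) : Nat := Bool.rec (e3L605 i) (e3L606 i) (Nat.ble 620544 i)
noncomputable def e3T602 (i : Nat) : Nat := Bool.rec (e3T600 i) (e3T601 i) (Nat.ble 619520 i)
noncomputable def e3T603 (i : Nat) : Nat := Bool.rec (e3T599 i) (e3T602 i) (Nat.ble 617472 i)
noncomputable def e3T604 (i : Nat) : Nat := Bool.rec (e3L607 i) (e3L608 i) (Nat.ble 622592 i)
noncomputable def e3T605 (i : Nat) : Nat := Bool.rec (e3L609 i) (e3L610 i) (Nat.ble 624640 i)
noncomputable def e3T606 (i : Nat) : Nat := Bool.rec (e3T604 i) (e3T605 i) (Nat.ble 623616 i)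
noncomputable def e3T607 (i : Nat) : Nat := Bool.rec (e3L611 i) (e3L612 i) (Nat.ble 626688 i)
noncomputable def e3T608 (i : Nat) : Nat := Bool.rec (e3L613 i) (e3L614 i) (Nat.ble 628736 i)
noncomputable def e3T609 (i : Nat) : Nat := Bool.rec (e3T607 i) (e3T608 i) (Nat.ble 627712 i)
noncomputable def e3T610 (i : Nat) : Nat := Bool.rec (e3T606 i) (e3T609 i) (Nat.ble 625664 i)
noncomputable def e3T611 (i : Nat) : Nat := Bool.rec (e3T603 i) (e3T610 i) (Nat.ble 621568 i)
noncomputable def e3T612 (i : Nat) : Nat := Bool.rec (e3L616 i) (e3L617 i) (Nat.ble 631808 i)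
noncomputable def e3T613 (i : Nat) : Nat := Bool.rec (e3L615 i) (e3T612 i) (Nat.ble 630784 i)
noncomputable def e3T614 (i : Nat) : Nat := Bool.rec (e3L618 i) (e3L619 i) (Nat.ble 633856 i)
noncomputable def e3T615 (i : Nat) : Nat := Bool.rec (e3L620 i) (e3L621 i) (Nat.ble 635904 i)
noncomputable def e3T616 (i : Nat) : Nat := Bool.rec (e3T614 i) (e3T615 i) (Nat.ble 634880 i)
noncomputable def e3T617 (i : Nat) : Nat := Bool.rec (e3T613 i) (e3T616 i) (Nat.ble 632832 i)
noncomputable def e3T618 (i : Nat) : Nat := Bool.rec (e3L622 i) (e3L623 i) (Nat.ble 637952 i)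
noncomputable def e3T619 (i : Nat) : Nat := Bool.rec (e3L624 i) (e3L625 i) (Nat.ble 640000 i)
noncomputable def e3T620 (i : Nat) : Nat := Bool.rec (e3T618 i) (e3T619 i) (Nat.ble 638976 i)
noncomputable def e3T621 (i : Nat) : Nat := Bool.rec (e3L626 i) (e3L627 i) (Nat.ble 642048 i)
noncomputable def e3T622 (i : Nat) : Nat := Bool.rec (e3L628 i) (e3L629 i) (Nat.ble 644096 i)
noncomputable def e3T623 (i : Nat) : Nat := Bool.rec (e3T621 i) (e3T622 i) (Nat.ble 643072 i)
noncomputable def e3T624 (i : Nat) : Nat := Bool.rec (e3T620 i) (e3T623 i) (Nat.ble 641024 i)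
noncomputable def e3T625 (i : Nat) : Nat := Bool.rec (e3T617 i) (e3T624 i) (Nat.ble 636928 i)
noncomputable def e3T626 (i : Nat) : Nat := Bool.rec (e3T611 i) (e3T625 i) (Nat.ble 629760 i)
noncomputable def e3T627 (i : Nat) : Nat := Bool.rec (e3L631 i) (e3L632 i) (Nat.ble 647168 i)
noncomputable def e3T628 (i : Nat) : Nat := Bool.rec (e3L630 i) (e3T627 i) (Nat.ble 646144 i)
noncomputable def e3T629 (i : Nat) : Nat := Bool.rec (e3L633 i) (e3L634 i) (Nat.ble 649216 i)
noncomputable def e3T630 (i : Nat) : Nat := Bool.rec (e3L635 i) (e3L636 i) (Nat.ble 651264 i)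
noncomputable def e3T631 (i : Nat) : Nat := Bool.rec (e3T629 i) (e3T630 i) (Nat.ble 650240 i)
noncomputable def e3T632 (i : Nat) : Nat := Bool.rec (e3T628 i) (e3T631 i) (Nat.ble 648192 i)
noncomputable def e3T633 (i : Nat) : Nat := Bool.rec (e3L637 i) (e3L638 i) (Nat.ble 653312 i)
noncomputable def e3T634 (i : Nat) : Nat := Bool.rec (e3L639 i) (e3L640 i) (Nat.ble 655360 i)
noncomputable def e3T635 (i : Nat) : Nat := Bool.rec (e3T633 i) (e3T634 i) (Nat.ble 654336 i)
noncomputable def e3T636 (i : Nat) : Nat := Bool.rec (e3L641 i) (e3L642 i) (Nat.ble 657408 i)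
noncomputable def e3T637 (i : Nat) : Nat := Bool.rec (e3L643 i) (e3L644 i) (Nat.ble 659456 i)
noncomputable def e3T638 (i : Nat) : Nat := Bool.rec (e3T636 i) (e3T637 i) (Nat.ble 658432 i)
noncomputable def e3T639 (i : Nat) : Nat := Bool.rec (e3T635 i) (e3T638 i) (Nat.ble 656384 i)
noncomputable def e3T640 (i : Nat) : Nat := Bool.rec (e3T632 i) (e3T639 i) (Nat.ble 652288 i)
noncomputable def e3T641 (i : Nat) : Nat := Bool.rec (e3L646 i) (e3L647 i) (Nat.ble 662528 i)
noncomputable def e3T642 (i : Nat) : Nat := Bool.rec (e3L645 i) (e3T641 i) (Nat.ble 661504 i)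
noncomputable def e3T643 (i : Nat) : Nat := Bool.rec (e3L648 i) (e3L649 i) (Nat.ble 664576 i)
noncomputable def e3T644 (i : Nat) : Nat := Bool.rec (e3L650 i) (e3L651 i) (Nat.ble 666624 i)
noncomputable def e3T645 (i : Nat) : Nat := Bool.rec (e3T643 i) (e3T644 i) (Nat.ble 665600 i)
noncomputable def e3T646 (i : Nat) : Nat := Bool.rec (e3T642 i) (e3T645 i) (Nat.ble 663552 i)
noncomputable def e3T647 (i : Nat) : Nat := Bool.rec (e3L652 i) (e3L653 i) (Nat.ble 668672 i)
noncomputable def e3T648 (i : Nat) : Nat := Bool.rec (e3L654 i) (e3L655 i) (Nat.ble 670720 i)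
noncomputable def e3T649 (i : Nat) : Nat := Bool.rec (e3T647 i) (e3T648 i) (Nat.ble 669696 i)
noncomputable def e3T650 (i : Nat) : Nat := Bool.rec (e3L656 i) (e3L657 i) (Nat.ble 672768 i)
noncomputable def e3T651 (i : Nat) : Nat := Bool.rec (e3L658 i) (e3L659 i) (Nat.ble 674816 i)
noncomputable def e3T652 (i : Nat) : Nat := Bool.rec (e3T650 i) (e3T651 i) (Nat.ble 673792 i)
noncomputable def e3T653 (i : Nat) : Nat := Bool.rec (e3T649 i) (e3T652 i) (Nat.ble 671744 i)
noncomputable def e3T654 (i : Nat) : Nat := Bool.rec (e3T646 i) (e3T653 i) (Nat.ble 667648 i)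
noncomputable def e3T655 (i : Nat) : Nat := Bool.rec (e3T640 i) (e3T654 i) (Nat.ble 660480 i)
noncomputable def e3T656 (i : Nat) : Nat := Bool.rec (e3T626 i) (e3T655 i) (Nat.ble 645120 i)
noncomputable def e3T657 (i : Nat) : Nat := Bool.rec (e3L661 i) (e3L662 i) (Nat.ble 677888 i)
noncomputable def e3T658 (i : Nat) : Nat := Bool.rec (e3L660 i) (e3T657 i) (Nat.ble 676864 i)
noncomputable def e3T659 (i : Nat) : Nat := Bool.rec (e3L663 i) (e3L664 i) (Nat.ble 679936 i)
noncomputable def e3T660 (i : Nat) : Nat := Bool.rec (e3L665 i) (e3L666 i) (Nat.ble 681984 i)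
noncomputable def e3T661 (i : Nat) : Nat := Bool.rec (e3T659 i) (e3T660 i) (Nat.ble 680960 i)
noncomputable def e3T662 (i : Nat) : Nat := Bool.rec (e3T658 i) (e3T661 i) (Nat.ble 678912 i)
noncomputable def e3T663 (i : Nat) : Nat := Bool.rec (e3L667 i) (e3L668 i) (Nat.ble 684032 i)
noncomputable def e3T664 (i : Nat) : Nat := Bool.rec (e3L669 i) (e3L670 i) (Nat.ble 686080 i)
noncomputable def e3T665 (i : Nat) : Nat := Bool.rec (e3T663 i) (e3T664 i) (Nat.ble 685056 i)
noncomputable def e3T666 (i : Nat) : Nat := Bool.rec (e3L671 i) (e3L672 i) (Nat.ble 688128 i)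
noncomputable def e3T667 (i : Nat) : Nat := Bool.rec (e3L673 i) (e3L674 i) (Nat.ble 690176 i)
noncomputable def e3T668 (i : Nat) : Nat := Bool.rec (e3T666 i) (e3T667 i) (Nat.ble 689152 i)
noncomputable def e3T669 (i : Nat) : Nat := Bool.rec (e3T665 i) (e3T668 i) (Nat.ble 687104 i)
noncomputable def e3T670 (i : Nat) : Nat := Bool.rec (e3T662 i) (e3T669 i) (Nat.ble 683008 i)
noncomputable def e3T671 (i : Nat) : Nat := Bool.rec (e3L676 i) (e3L677 i) (Nat.ble 693248 i)
noncomputable def e3T672 (i : Nat) : Nat := Bool.rec (e3L675 i) (e3T671 i) (Nat.ble 692224 i)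
noncomputable def e3T673 (i : Nat) : Nat := Bool.rec (e3L678 i) (e3L679 i) (Nat.ble 695296 i)
noncomputable def e3T674 (i : Nat) : Nat := Bool.rec (e3L680 i) (e3L681 i) (Nat.ble 697344 i)
noncomputable def e3T675 (i : Nat) : Nat := Bool.rec (e3T673 i) (e3T674 i) (Nat.ble 696320 i)
noncomputable def e3T676 (i : Nat) : Nat := Bool.rec (e3T672 i) (e3T675 i) (Nat.ble 694272 i)
noncomputable def e3T677 (i : Nat) : Nat := Bool.rec (e3L682 i) (e3L683 i) (Nat.ble 699392 i)
noncomputable def e3T678 (i : Nat) : Nat := Bool.rec (e3L684 i) (e3L685 i) (Nat.ble 701440 i)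
noncomputable def e3T679 (i : Nat) : Nat := Bool.rec (e3T677 i) (e3T678 i) (Nat.ble 700416 i)
noncomputable def e3T680 (i : Nat) : Nat := Bool.rec (e3L686 i) (e3L687 i) (Nat.ble 703488 i)
noncomputable def e3T681 (i : Nat) : Nat := Bool.rec (e3L688 i) (e3L689 i) (Nat.ble 705536 i)
noncomputable def e3T682 (i : Nat) : Nat := Bool.rec (e3T680 i) (e3T681 i) (Nat.ble 704512 i)
noncomputable def e3T683 (i : Nat) : Nat := Bool.rec (e3T679 i) (e3T682 i) (Nat.ble 702464 i)
noncomputable def e3T684 (i : Nat) : Nat := Bool.rec (e3T676 i) (e3T683 i) (Nat.ble 698368 i)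
noncomputable def e3T685 (i : Nat) : Nat := Bool.rec (e3T670 i) (e3T684 i) (Nat.ble 691200 i)
noncomputable def e3T686 (i : Nat) : Nat := Bool.rec (e3L691 i) (e3L692 i) (Nat.ble 708608 i)
noncomputable def e3T687 (i : Nat) : Nat := Bool.rec (e3L690 i) (e3T686 i) (Nat.ble 707584 i)
noncomputable def e3T688 (i : Nat) : Nat := Bool.rec (e3L693 i) (e3L694 i) (Nat.ble 710656 i)
noncomputable def e3T689 (i : Nat) : Nat := Bool.rec (e3L695 i) (e3L696 i) (Nat.ble 712704 i)
noncomputable def e3T690 (i : Nat) : Nat := Bool.rec (e3T688 i) (e3T689 i) (Nat.ble 711680 i)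
noncomputable def e3T691 (i : Nat) : Nat := Bool.rec (e3T687 i) (e3T690 i) (Nat.ble 709632 i)
noncomputable def e3T692 (i : Nat) : Nat := Bool.rec (e3L697 i) (e3L698 i) (Nat.ble 714752 i)
noncomputable def e3T693 (i : Nat) : Nat := Bool.rec (e3L699 i) (e3L700 i) (Nat.ble 716800 i)
noncomputable def e3T694 (i : Nat) : Nat := Bool.rec (e3T692 i) (e3T693 i) (Nat.ble 715776 i)
noncomputable def e3T695 (i : Nat) : Nat := Bool.rec (e3L701 i) (e3L702 i) (Nat.ble 718848 i)
noncomputable def e3T696 (i : Nat) : Nat := Bool.rec (e3L703 i) (e3L704 i) (Nat.ble 720896 i)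
noncomputable def e3T697 (i : Nat) : Nat := Bool.rec (e3T695 i) (e3T696 i) (Nat.ble 719872 i)
noncomputable def e3T698 (i : Nat) : Nat := Bool.rec (e3T694 i) (e3T697 i) (Nat.ble 717824 i)
noncomputable def e3T699 (i : Nat) : Nat := Bool.rec (e3T691 i) (e3T698 i) (Nat.ble 713728 i)
noncomputable def e3T700 (i : Nat) : Nat := Bool.rec (e3L706 i) (e3L707 i) (Nat.ble 723968 i)
noncomputable def e3T701 (i : Nat) : Nat := Bool.rec (e3L705 i) (e3T700 i) (Nat.ble 722944 i)
noncomputable def e3T702 (i : Nat) : Nat := Bool.rec (e3L708 i) (e3L709 i) (Nat.ble 726016 i)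
noncomputable def e3T703 (i : Nat) : Nat := Bool.rec (e3L710 i) (e3L711 i) (Nat.ble 728064 i)
noncomputable def e3T704 (i : Nat) : Nat := Bool.rec (e3T702 i) (e3T703 i) (Nat.ble 727040 i)
noncomputable def e3T705 (i : Nat) : Nat := Bool.rec (e3T701 i) (e3T704 i) (Nat.ble 724992 i)
noncomputable def e3T706 (i : Nat) : Nat := Bool.rec (e3L712 i) (e3L713 i) (Nat.ble 730112 i)
noncomputable def e3T707 (i : Nat) : Nat := Bool.rec (e3L714 i) (e3L715 i) (Nat.ble 732160 i)
noncomputable def e3T708 (i : Nat) : Nat := Bool.rec (e3T706 i) (e3T707 i) (Nat.ble 731136 i)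
noncomputable def e3T709 (i : Nat) : Nat := Bool.rec (e3L716 i) (e3L717 i) (Nat.ble 734208 i)
noncomputable def e3T710 (i : Nat) : Nat := Bool.rec (e3L718 i) (e3L719 i) (Nat.ble 736256 i)
noncomputable def e3T711 (i : Nat) : Nat := Bool.rec (e3T709 i) (e3T710 i) (Nat.ble 735232 i)
noncomputable def e3T712 (i : Nat) : Nat := Bool.rec (e3T708 i) (e3T711 i) (Nat.ble 733184 i)
noncomputable def e3T713 (i : Nat) : Nat := Bool.rec (e3T705 i) (e3T712 i) (Nat.ble 729088 i)
noncomputable def e3T714 (i : Nat) : Nat := Bool.rec (e3T699 i) (e3T713 i) (Nat.ble 721920 i)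
noncomputable def e3T715 (i : Nat) : Nat := Bool.rec (e3T685 i) (e3T714 i) (Nat.ble 706560 i)
noncomputable def e3T716 (i : Nat) : Nat := Bool.rec (e3T656 i) (e3T715 i) (Nat.ble 675840 i)
noncomputable def e3T717 (i : Nat) : Nat := Bool.rec (e3T597 i) (e3T716 i) (Nat.ble 614400 i)
noncomputable def e3T718 (i : Nat) : Nat := Bool.rec (e3L721 i) (e3L722 i) (Nat.ble 739328 i)
noncomputable def e3T719 (i : Nat) : Nat := Bool.rec (e3L720 i) (e3T718 i) (Nat.ble 738304 i)
noncomputable def e3T720 (i : Nat) : Nat := Bool.rec (e3L723 i) (e3L724 i) (Nat.ble 741376 i)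
noncomputable def e3T721 (i : Nat) : Nat := Bool.rec (e3L725 i) (e3L726 i) (Nat.ble 743424 i)
noncomputable def e3T722 (i : Nat) : Nat := Bool.rec (e3T720 i) (e3T721 i) (Nat.ble 742400 i)
noncomputable def e3T723 (i : Nat) : Nat := Bool.rec (e3T719 i) (e3T722 i) (Nat.ble 740352 i)
noncomputable def e3T724 (i : Nat) : Nat := Bool.rec (e3L727 i) (e3L728 i) (Nat.ble 745472 i)
noncomputable def e3T725 (i : Nat) : Nat := Bool.rec (e3L729 i) (e3L730 i) (Nat.ble 747520 i)
noncomputable def e3T726 (i : Nat) : Nat := Bool.rec (e3T724 i) (e3T725 i) (Nat.ble 746496 i)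
noncomputable def e3T727 (i : Nat) : Nat := Bool.rec (e3L731 i) (e3L732 i) (Nat.ble 749568 i)
noncomputable def e3T728 (i : Nat) : Nat := Bool.rec (e3L733 i) (e3L734 i) (Nat.ble 751616 i)
noncomputable def e3T729 (i : Nat) : Nat := Bool.rec (e3T727 i) (e3T728 i) (Nat.ble 750592 i)
noncomputable def e3T730 (i : Nat) : Nat := Bool.rec (e3T726 i) (e3T729 i) (Nat.ble 748544 i)
noncomputable def e3T731 (i : Nat) : Nat := Bool.rec (e3T723 i) (e3T730 i) (Nat.ble 744448 i)
noncomputable def e3T732 (i : Nat) : Nat := Bool.rec (e3L736 i) (e3L737 i) (Nat.ble 754688 i)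
noncomputable def e3T733 (i : Nat) : Nat := Bool.rec (e3L735 i) (e3T732 i) (Nat.ble 753664 i)
noncomputable def e3T734 (i : Nat) : Nat := Bool.rec (e3L738 i) (e3L739 i) (Nat.ble 756736 i)
noncomputable def e3T735 (i : Nat) : Nat := Bool.rec (e3L740 i) (e3L741 i) (Nat.ble 758784 i)
noncomputable def e3T736 (i : Nat) : Nat := Bool.rec (e3T734 i) (e3T735 i) (Nat.ble 757760 i)
noncomputable def e3T737 (i : Nat) : Nat := Bool.rec (e3T733 i) (e3T736 i) (Nat.ble 755712 i)
noncomputable def e3T738 (i : Nat) : Nat := Bool.rec (e3L742 i) (e3L743 i) (Nat.ble 760832 i)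
noncomputable def e3T739 (i : Nat) : Nat := Bool.rec (e3L744 i) (e3L745 i) (Nat.ble 762880 i)
noncomputable def e3T740 (i : Nat) : Nat := Bool.rec (e3T738 i) (e3T739 i) (Nat.ble 761856 i)
noncomputable def e3T741 (i : Nat) : Nat := Bool.rec (e3L746 i) (e3L747 i) (Nat.ble 764928 i)
noncomputable def e3T742 (i : Nat) : Nat := Bool.rec (e3L748 i) (e3L749 i) (Nat.ble 766976 i)
noncomputable def e3T743 (i : Nat) : Nat := Bool.rec (e3T741 i) (e3T742 i) (Nat.ble 765952 i)
noncomputable def e3T744 (i : Nat) : Nat := Bool.rec (e3T740 i) (e3T743 i) (Nat.ble 763904 i)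
noncomputable def e3T745 (i : Nat) : Nat := Bool.rec (e3T737 i) (e3T744 i) (Nat.ble 759808 i)
noncomputable def e3T746 (i : Nat) : Nat := Bool.rec (e3T731 i) (e3T745 i) (Nat.ble 752640 i)
noncomputable def e3T747 (i : Nat) : Nat := Bool.rec (e3L751 i) (e3L752 i) (Nat.ble 770048 i)
noncomputable def e3T748 (i : Nat) : Nat := Bool.rec (e3L750 i) (e3T747 i) (Nat.ble 769024 i)
noncomputable def e3T749 (i : Nat) : Nat := Bool.rec (e3L753 i) (e3L754 i) (Nat.ble 772096 i)
noncomputable def e3T750 (i : Nat) : Nat := Bool.rec (e3L755 i) (e3L756 i) (Nat.ble 774144 i)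
noncomputable def e3T751 (i : Nat) : Nat := Bool.rec (e3T749 i) (e3T750 i) (Nat.ble 773120 i)
noncomputable def e3T752 (i : Nat) : Nat := Bool.rec (e3T748 i) (e3T751 i) (Nat.ble 771072 i)
noncomputable def e3T753 (i : Nat) : Nat := Bool.rec (e3L757 i) (e3L758 i) (Nat.ble 776192 i)
noncomputable def e3T754 (i : Nat) : Nat := Bool.rec (e3L759 i) (e3L760 i) (Nat.ble 778240 i)
noncomputable def e3T755 (i : Nat) : Nat := Bool.rec (e3T753 i) (e3T754 i) (Nat.ble 777216 i)
noncomputable def e3T756 (i : Nat) : Nat := Bool.rec (e3L761 i) (e3L762 i) (Nat.ble 780288 i)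
noncomputable def e3T757 (i : Nat) : Nat := Bool.rec (e3L763 i) (e3L764 i) (Nat.ble 782336 i)
noncomputable def e3T758 (i : Nat) : Nat := Bool.rec (e3T756 i) (e3T757 i) (Nat.ble 781312 i)
noncomputable def e3T759 (i : Nat) : Nat := Bool.rec (e3T755 i) (e3T758 i) (Nat.ble 779264 i)
noncomputable def e3T760 (i : Nat) : Nat := Bool.rec (e3T752 i) (e3T759 i) (Nat.ble 775168 i)
noncomputable def e3T761 (i : Nat) : Nat := Bool.rec (e3L766 i) (e3L767 i) (Nat.ble 785408 i)
noncomputable def e3T762 (i : Nat) : Nat := Bool.rec (e3L765 i) (e3T761 i) (Nat.ble 784384 i)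
noncomputable def e3T763 (i : Nat) : Nat := Bool.rec (e3L768 i) (e3L769 i) (Nat.ble 787456 i)
noncomputable def e3T764 (i : Nat) : Nat := Bool.rec (e3L770 i) (e3L771 i) (Nat.ble 789504 i)
noncomputable def e3T765 (i : Nat) : Nat := Bool.rec (e3T763 i) (e3T764 i) (Nat.ble 788480 i)
noncomputable def e3T766 (i : Nat) : Nat := Bool.rec (e3T762 i) (e3T765 i) (Nat.ble 786432 i)
noncomputable def e3T767 (i : Nat) : Nat := Bool.rec (e3L772 i) (e3L773 i) (Nat.ble 791552 i)
noncomputable def e3T768 (i : Nat) : Nat := Bool.rec (e3L774 i) (e3L775 i) (Nat.ble 793600 i)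
noncomputable def e3T769 (i : Nat) : Nat := Bool.rec (e3T767 i) (e3T768 i) (Nat.ble 792576 i)
noncomputable def e3T770 (i : Nat) : Nat := Bool.rec (e3L776 i) (e3L777 i) (Nat.ble 795648 i)
noncomputable def e3T771 (i : Nat) : Nat := Bool.rec (e3L778 i) (e3L779 i) (Nat.ble 797696 i)
noncomputable def e3T772 (i : Nat) : Nat := Bool.rec (e3T770 i) (e3T771 i) (Nat.ble 796672 i)
noncomputable def e3T773 (i : Nat) : Nat := Bool.rec (e3T769 i) (e3T772 i) (Nat.ble 794624 i)
noncomputable def e3T774 (i : Nat) : Nat := Bool.rec (e3T766 i) (e3T773 i) (Nat.ble 790528 i)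
noncomputable def e3T775 (i : Nat) : Nat := Bool.rec (e3T760 i) (e3T774 i) (Nat.ble 783360 i)
noncomputable def e3T776 (i : Nat) : Nat := Bool.rec (e3T746 i) (e3T775 i) (Nat.ble 768000 i)
noncomputable def e3T777 (i : Nat) : Nat := Bool.rec (e3L781 i) (e3L782 i) (Nat.ble 800768 i)
noncomputable def e3T778 (i : Nat) : Nat := Bool.rec (e3L780 i) (e3T777 i) (Nat.ble 799744 i)
noncomputable def e3T779 (i : Nat) : Nat := Bool.rec (e3L783 i) (e3L784 i) (Nat.ble 802816 i)
noncomputable def e3T780 (i : Nat) : Nat := Bool.rec (e3L785 i) (e3L786 i) (Nat.ble 804864 i)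
noncomputable def e3T781 (i : Nat) : Nat := Bool.rec (e3T779 i) (e3T780 i) (Nat.ble 803840 i)
noncomputable def e3T782 (i : Nat) : Nat := Bool.rec (e3T778 i) (e3T781 i) (Nat.ble 801792 i)
noncomputable def e3T783 (i : Nat) : Nat := Bool.rec (e3L787 i) (e3L788 i) (Nat.ble 806912 i)
noncomputable def e3T784 (i : Nat) : Nat := Bool.rec (e3L789 i) (e3L790 i) (Nat.ble 808960 i)
noncomputable def e3T785 (i : Nat) : Nat := Bool.rec (e3T783 i) (e3T784 i) (Nat.ble 807936 i)
noncomputable def e3T786 (i : Nat) : Nat := Bool.rec (e3L791 i) (e3L792 i) (Nat.ble 811008 i)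
noncomputable def e3T787 (i : Nat) : Nat := Bool.rec (e3L793 i) (e3L794 i) (Nat.ble 813056 i)
noncomputable def e3T788 (i : Nat) : Nat := Bool.rec (e3T786 i) (e3T787 i) (Nat.ble 812032 i)
noncomputable def e3T789 (i : Nat) : Nat := Bool.rec (e3T785 i) (e3T788 i) (Nat.ble 809984 i)
noncomputable def e3T790 (i : Nat) : Nat := Bool.rec (e3T782 i) (e3T789 i) (Nat.ble 805888 i)
noncomputable def e3T791 (i : Nat) : Nat := Bool.rec (e3L796 i) (e3L797 i) (Nat.ble 816128 i)
noncomputable def e3T792 (i : Nat) : Nat := Bool.rec (e3L795 i) (e3T791 i) (Nat.ble 815104 i)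
noncomputable def e3T793 (i : Nat) : Nat := Bool.rec (e3L798 i) (e3L799 i) (Nat.ble 818176 i)
noncomputable def e3T794 (i : Nat) : Nat := Bool.rec (e3L800 i) (e3L801 i) (Nat.ble 820224 i)
noncomputable def e3T795 (i : Nat) : Nat := Bool.rec (e3T793 i) (e3T794 i) (Nat.ble 819200 i)
noncomputable def e3T796 (i : Nat) : Nat := Bool.rec (e3T792 i) (e3T795 i) (Nat.ble 817152 i)
noncomputable def e3T797 (i : Nat) : Nat := Bool.rec (e3L802 i) (e3L803 i) (Nat.ble 822272 i)
noncomputable def e3T798 (i : Nat) : Nat := Bool.rec (e3L804 i) (e3L805 i) (Nat.ble 824320 i)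
noncomputable def e3T799 (i : Nat) : Nat := Bool.rec (e3T797 i) (e3T798 i) (Nat.ble 823296 i)
noncomputable def e3T800 (i : Nat) : Nat := Bool.rec (e3L806 i) (e3L807 i) (Nat.ble 826368 i)
noncomputable def e3T801 (i : Nat) : Nat := Bool.rec (e3L808 i) (e3L809 i) (Nat.ble 828416 i)
noncomputable def e3T802 (i : Nat) : Nat := Bool.rec (e3T800 i) (e3T801 i) (Nat.ble 827392 i)
noncomputable def e3T803 (i : Nat) : Nat := Bool.rec (e3T799 i) (e3T802 i) (Nat.ble 825344 i)
noncomputable def e3T804 (i : Nat) : Nat := Bool.rec (e3T796 i) (e3T803 i) (Nat.ble 821248 i)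
noncomputable def e3T805 (i : Nat) : Nat := Bool.rec (e3T790 i) (e3T804 i) (Nat.ble 814080 i)
noncomputable def e3T806 (i : Nat) : Nat := Bool.rec (e3L811 i) (e3L812 i) (Nat.ble 831488 i)
noncomputable def e3T807 (i : Nat) : Nat := Bool.rec (e3L810 i) (e3T806 i) (Nat.ble 830464 i)
noncomputable def e3T808 (i : Nat) : Nat := Bool.rec (e3L813 i) (e3L814 i) (Nat.ble 833536 i)
noncomputable def e3T809 (i : Nat) : Nat := Bool.rec (e3L815 i) (e3L816 i) (Nat.ble 835584 i)
noncomputable def e3T810 (i : Nat) : Nat := Bool.rec (e3T808 i) (e3T809 i) (Nat.ble 834560 i)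
noncomputable def e3T811 (i : Nat) : Nat := Bool.rec (e3T807 i) (e3T810 i) (Nat.ble 832512 i)
noncomputable def e3T812 (i : Nat) : Nat := Bool.rec (e3L817 i) (e3L818 i) (Nat.ble 837632 i)
noncomputable def e3T813 (i : Nat) : Nat := Bool.rec (e3L819 i) (e3L820 i) (Nat.ble 839680 i)
noncomputable def e3T814 (i : Nat) : Nat := Bool.rec (e3T812 i) (e3T813 i) (Nat.ble 838656 i)
noncomputable def e3T815 (i : Nat) : Nat := Bool.rec (e3L821 i) (e3L822 i) (Nat.ble 841728 i)
noncomputable def e3T816 (i : Nat) : Nat := Bool.rec (e3L823 i) (e3L824 i) (Nat.ble 843776 i)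
noncomputable def e3T817 (i : Nat) : Nat := Bool.rec (e3T815 i) (e3T816 i) (Nat.ble 842752 i)
noncomputable def e3T818 (i : Nat) : Nat := Bool.rec (e3T814 i) (e3T817 i) (Nat.ble 840704 i)
noncomputable def e3T819 (i : Nat) : Nat := Bool.rec (e3T811 i) (e3T818 i) (Nat.ble 836608 i)
noncomputable def e3T820 (i : Nat) : Nat := Bool.rec (e3L826 i) (e3L827 i) (Nat.ble 846848 i)
noncomputable def e3T821 (i : Nat) : Nat := Bool.rec (e3L825 i) (e3T820 i) (Nat.ble 845824 i)
noncomputable def e3T822 (i : Nat) : Nat := Bool.rec (e3L828 i) (e3L829 i) (Nat.ble 848896 i)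
noncomputable def e3T823 (i : Nat) : Nat := Bool.rec (e3L830 i) (e3L831 i) (Nat.ble 850944 i)
noncomputable def e3T824 (i : Nat) : Nat := Bool.rec (e3T822 i) (e3T823 i) (Nat.ble 849920 i)
noncomputable def e3T825 (i : Nat) : Nat := Bool.rec (e3T821 i) (e3T824 i) (Nat.ble 847872 i)
noncomputable def e3T826 (i : Nat) : Nat := Bool.rec (e3L832 i) (e3L833 i) (Nat.ble 852992 i)
noncomputable def e3T827 (i : Nat) : Nat := Bool.rec (e3L834 i) (e3L835 i) (Nat.ble 855040 i)
noncomputable def e3T828 (i : Nat) : Nat := Bool.rec (e3T826 i) (e3T827 i) (Nat.ble 854016 i)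
noncomputable def e3T829 (i : Nat) : Nat := Bool.rec (e3L836 i) (e3L837 i) (Nat.ble 857088 i)
noncomputable def e3T830 (i : Nat) : Nat := Bool.rec (e3L838 i) (e3L839 i) (Nat.ble 859136 i)
noncomputable def e3T831 (i : Nat) : Nat := Bool.rec (e3T829 i) (e3T830 i) (Nat.ble 858112 i)
noncomputable def e3T832 (i : Nat) : Nat := Bool.rec (e3T828 i) (e3T831 i) (Nat.ble 856064 i)
noncomputable def e3T833 (i : Nat) : Nat := Bool.rec (e3T825 i) (e3T832 i) (Nat.ble 851968 i)
noncomputable def e3T834 (i : Nat) : Nat := Bool.rec (e3T819 i) (e3T833 i) (Nat.ble 844800 i)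
noncomputable def e3T835 (i : Nat) : Nat := Bool.rec (e3T805 i) (e3T834 i) (Nat.ble 829440 i)
noncomputable def e3T836 (i : Nat) : Nat := Bool.rec (e3T776 i) (e3T835 i) (Nat.ble 798720 i)
noncomputable def e3T837 (i : Nat) : Nat := Bool.rec (e3L841 i) (e3L842 i) (Nat.ble 862208 i)
noncomputable def e3T838 (i : Nat) : Nat := Bool.rec (e3L840 i) (e3T837 i) (Nat.ble 861184 i)
noncomputable def e3T839 (i : Nat) : Nat := Bool.rec (e3L843 i) (e3L844 i) (Nat.ble 864256 i)
noncomputable def e3T840 (i : Nat) : Nat := Bool.rec (e3L845 i) (e3L846 i) (Nat.ble 866304 i)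
noncomputable def e3T841 (i : Nat) : Nat := Bool.rec (e3T839 i) (e3T840 i) (Nat.ble 865280 i)
noncomputable def e3T842 (i : Nat) : Nat := Bool.rec (e3T838 i) (e3T841 i) (Nat.ble 863232 i)
noncomputable def e3T843 (i : Nat) : Nat := Bool.rec (e3L847 i) (e3L848 i) (Nat.ble 868352 i)
noncomputable def e3T844 (i : Nat) : Nat := Bool.rec (e3L849 i) (e3L850 i) (Nat.ble 870400 i)
noncomputable def e3T845 (i : Nat) : Nat := Bool.rec (e3T843 i) (e3T844 i) (Nat.ble 869376 i)
noncomputable def e3T846 (i : Nat) : Nat := Bool.rec (e3L851 i) (e3L852 i) (Nat.ble 872448 i)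
noncomputable def e3T847 (i : Nat) : Nat := Bool.rec (e3L853 i) (e3L854 i) (Nat.ble 874496 i)
noncomputable def e3T848 (i : Nat) : Nat := Bool.rec (e3T846 i) (e3T847 i) (Nat.ble 873472 i)
noncomputable def e3T849 (i : Nat) : Nat := Bool.rec (e3T845 i) (e3T848 i) (Nat.ble 871424 i)
noncomputable def e3T850 (i : Nat) : Nat := Bool.rec (e3T842 i) (e3T849 i) (Nat.ble 867328 i)
noncomputable def e3T851 (i : Nat) : Nat := Bool.rec (e3L856 i) (e3L857 i) (Nat.ble 877568 i)
noncomputable def e3T852 (i : Nat) : Nat := Bool.rec (e3L855 i) (e3T851 i) (Nat.ble 876544 i)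
noncomputable def e3T853 (i : Nat) : Nat := Bool.rec (e3L858 i) (e3L859 i) (Nat.ble 879616 i)
noncomputable def e3T854 (i : Nat) : Nat := Bool.rec (e3L860 i) (e3L861 i) (Nat.ble 881664 i)
noncomputable def e3T855 (i : Nat) : Nat := Bool.rec (e3T853 i) (e3T854 i) (Nat.ble 880640 i)
noncomputable def e3T856 (i : Nat) : Nat := Bool.rec (e3T852 i) (e3T855 i) (Nat.ble 878592 i)
noncomputable def e3T857 (i : Nat) : Nat := Bool.rec (e3L862 i) (e3L863 i) (Nat.ble 883712 i)
noncomputable def e3T858 (i : Nat) : Nat := Bool.rec (e3L864 i) (e3L865 i) (Nat.ble 885760 i)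
noncomputable def e3T859 (i : Nat) : Nat := Bool.rec (e3T857 i) (e3T858 i) (Nat.ble 884736 i)
noncomputable def e3T860 (i : Nat) : Nat := Bool.rec (e3L866 i) (e3L867 i) (Nat.ble 887808 i)
noncomputable def e3T861 (i : Nat) : Nat := Bool.rec (e3L868 i) (e3L869 i) (Nat.ble 889856 i)
noncomputable def e3T862 (i : Nat) : Nat := Bool.rec (e3T860 i) (e3T861 i) (Nat.ble 888832 i)
noncomputable def e3T863 (i : Nat) : Nat := Bool.rec (e3T859 i) (e3T862 i) (Nat.ble 886784 i)
noncomputable def e3T864 (i : Nat) : Nat := Bool.rec (e3T856 i) (e3T863 i) (Nat.ble 882688 i)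
noncomputable def e3T865 (i : Nat) : Nat := Bool.rec (e3T850 i) (e3T864 i) (Nat.ble 875520 i)
noncomputable def e3T866 (i : Nat) : Nat := Bool.rec (e3L871 i) (e3L872 i) (Nat.ble 892928 i)
noncomputable def e3T867 (i : Nat) : Nat := Bool.rec (e3L870 i) (e3T866 i) (Nat.ble 891904 i)
noncomputable def e3T868 (i : Nat) : Nat := Bool.rec (e3L873 i) (e3L874 i) (Nat.ble 894976 i)
noncomputable def e3T869 (i : Nat) : Nat := Bool.rec (e3L875 i) (e3L876 i) (Nat.ble 897024 i)
noncomputable def e3T870 (i : Nat) : Nat := Bool.rec (e3T868 i) (e3T869 i) (Nat.ble 896000 i)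
noncomputable def e3T871 (i : Nat) : Nat := Bool.rec (e3T867 i) (e3T870 i) (Nat.ble 893952 i)
noncomputable def e3T872 (i : Nat) : Nat := Bool.rec (e3L877 i) (e3L878 i) (Nat.ble 899072 i)
noncomputable def e3T873 (i : Nat) : Nat := Bool.rec (e3L879 i) (e3L880 i) (Nat.ble 901120 i)
noncomputable def e3T874 (i : Nat) : Nat := Bool.rec (e3T872 i) (e3T873 i) (Nat.ble 900096 i)
noncomputable def e3T875 (i : Nat) : Nat := Bool.rec (e3L881 i) (e3L882 i) (Nat.ble 903168 i)
noncomputable def e3T876 (i : Nat) : Nat := Bool.rec (e3L883 i) (e3L884 i) (Nat.ble 905216 i)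
noncomputable def e3T877 (i : Nat) : Nat := Bool.rec (e3T875 i) (e3T876 i) (Nat.ble 904192 i)
noncomputable def e3T878 (i : Nat) : Nat := Bool.rec (e3T874 i) (e3T877 i) (Nat.ble 902144 i)
noncomputable def e3T879 (i : Nat) : Nat := Bool.rec (e3T871 i) (e3T878 i) (Nat.ble 898048 i)
noncomputable def e3T880 (i : Nat) : Nat := Bool.rec (e3L886 i) (e3L887 i) (Nat.ble 908288 i)
noncomputable def e3T881 (i : Nat) : Nat := Bool.rec (e3L885 i) (e3T880 i) (Nat.ble 907264 i)
noncomputable def e3T882 (i : Nat) : Nat := Bool.rec (e3L888 i) (e3L889 i) (Nat.ble 910336 i)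
noncomputable def e3T883 (i : Nat) : Nat := Bool.rec (e3L890 i) (e3L891 i) (Nat.ble 912384 i)
noncomputable def e3T884 (i : Nat) : Nat := Bool.rec (e3T882 i) (e3T883 i) (Nat.ble 911360 i)
noncomputable def e3T885 (i : Nat) : Nat := Bool.rec (e3T881 i) (e3T884 i) (Nat.ble 909312 i)
noncomputable def e3T886 (i : Nat) : Nat := Bool.rec (e3L892 i) (e3L893 i) (Nat.ble 914432 i)
noncomputable def e3T887 (i : Nat) : Nat := Bool.rec (e3L894 i) (e3L895 i) (Nat.ble 916480 i)
noncomputable def e3T888 (i : Nat) : Nat := Bool.rec (e3T886 i) (e3T887 i) (Nat.ble 915456 i)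
noncomputable def e3T889 (i : Nat) : Nat := Bool.rec (e3L896 i) (e3L897 i) (Nat.ble 918528 i)
noncomputable def e3T890 (i : Nat) : Nat := Bool.rec (e3L898 i) (e3L899 i) (Nat.ble 920576 i)
noncomputable def e3T891 (i : Nat) : Nat := Bool.rec (e3T889 i) (e3T890 i) (Nat.ble 919552 i)
noncomputable def e3T892 (i : Nat) : Nat := Bool.rec (e3T888 i) (e3T891 i) (Nat.ble 917504 i)
noncomputable def e3T893 (i : Nat) : Nat := Bool.rec (e3T885 i) (e3T892 i) (Nat.ble 913408 i)
noncomputable def e3T894 (i : Nat) : Nat := Bool.rec (e3T879 i) (e3T893 i) (Nat.ble 906240 i)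
noncomputable def e3T895 (i : Nat) : Nat := Bool.rec (e3T865 i) (e3T894 i) (Nat.ble 890880 i)
noncomputable def e3T896 (i : Nat) : Nat := Bool.rec (e3L901 i) (e3L902 i) (Nat.ble 923648 i)
noncomputable def e3T897 (i : Nat) : Nat := Bool.rec (e3L900 i) (e3T896 i) (Nat.ble 922624 i)
noncomputable def e3T898 (i : Nat) : Nat := Bool.rec (e3L903 i) (e3L904 i) (Nat.ble 925696 i)
noncomputable def e3T899 (i : Nat) : Nat := Bool.rec (e3L905 i) (e3L906 i) (Nat.ble 927744 i)
noncomputable def e3T900 (i : Nat) : Nat := Bool.rec (e3T898 i) (e3T899 i) (Nat.ble 926720 i)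
noncomputable def e3T901 (i : Nat) : Nat := Bool.rec (e3T897 i) (e3T900 i) (Nat.ble 924672 i)
noncomputable def e3T902 (i : Nat) : Nat := Bool.rec (e3L907 i) (e3L908 i) (Nat.ble 929792 i)
noncomputable def e3T903 (i : Nat) : Nat := Bool.rec (e3L909 i) (e3L910 i) (Nat.ble 931840 i)
noncomputable def e3T904 (i : Nat) : Nat := Bool.rec (e3T902 i) (e3T903 i) (Nat.ble 930816 i)
noncomputable def e3T905 (i : Nat) : Nat := Bool.rec (e3L911 i) (e3L912 i) (Nat.ble 933888 i)
noncomputable def e3T906 (i : Nat) : Nat := Bool.rec (e3L913 i) (e3L914 i) (Nat.ble 935936 i)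
noncomputable def e3T907 (i : Nat) : Nat := Bool.rec (e3T905 i) (e3T906 i) (Nat.ble 934912 i)
noncomputable def e3T908 (i : Nat) : Nat := Bool.rec (e3T904 i) (e3T907 i) (Nat.ble 932864 i)
noncomputable def e3T909 (i : Nat) : Nat := Bool.rec (e3T901 i) (e3T908 i) (Nat.ble 928768 i)
noncomputable def e3T910 (i : Nat) : Nat := Bool.rec (e3L916 i) (e3L917 i) (Nat.ble 939008 i)
noncomputable def e3T911 (i : Nat) : Nat := Bool.rec (e3L915 i) (e3T910 i) (Nat.ble 937984 i)
noncomputable def e3T912 (i : Nat) : Nat := Bool.rec (e3L918 i) (e3L919 i) (Nat.ble 941056 i)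
noncomputable def e3T913 (i : Nat) : Nat := Bool.rec (e3L920 i) (e3L921 i) (Nat.ble 943104 i)
noncomputable def e3T914 (i : Nat) : Nat := Bool.rec (e3T912 i) (e3T913 i) (Nat.ble 942080 i)
noncomputable def e3T915 (i : Nat) : Nat := Bool.rec (e3T911 i) (e3T914 i) (Nat.ble 940032 i)
noncomputable def e3T916 (i : Nat) : Nat := Bool.rec (e3L922 i) (e3L923 i) (Nat.ble 945152 i)
noncomputable def e3T917 (i : Nat) : Nat := Bool.rec (e3L924 i) (e3L925 i) (Nat.ble 947200 i)
noncomputable def e3T918 (i : Nat) : Nat := Bool.rec (e3T916 i) (e3T917 i) (Nat.ble 946176 i)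
noncomputable def e3T919 (i : Nat) : Nat := Bool.rec (e3L926 i) (e3L927 i) (Nat.ble 949248 i)
noncomputable def e3T920 (i : Nat) : Nat := Bool.rec (e3L928 i) (e3L929 i) (Nat.ble 951296 i)
noncomputable def e3T921 (i : Nat) : Nat := Bool.rec (e3T919 i) (e3T920 i) (Nat.ble 950272 i)
noncomputable def e3T922 (i : Nat) : Nat := Bool.rec (e3T918 i) (e3T921 i) (Nat.ble 948224 i)
noncomputable def e3T923 (i : Nat) : Nat := Bool.rec (e3T915 i) (e3T922 i) (Nat.ble 944128 i)
noncomputable def e3T924 (i : Nat) : Nat := Bool.rec (e3T909 i) (e3T923 i) (Nat.ble 936960 i)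
noncomputable def e3T925 (i : Nat) : Nat := Bool.rec (e3L931 i) (e3L932 i) (Nat.ble 954368 i)
noncomputable def e3T926 (i : Nat) : Nat := Bool.rec (e3L930 i) (e3T925 i) (Nat.ble 953344 i)
noncomputable def e3T927 (i : Nat) : Nat := Bool.rec (e3L933 i) (e3L934 i) (Nat.ble 956416 i)
noncomputable def e3T928 (i : Nat) : Nat := Bool.rec (e3L935 i) (e3L936 i) (Nat.ble 958464 i)
noncomputable def e3T929 (i : Nat) : Nat := Bool.rec (e3T927 i) (e3T928 i) (Nat.ble 957440 i)
noncomputable def e3T930 (i : Nat) : Nat := Bool.rec (e3T926 i) (e3T929 i) (Nat.ble 955392 i)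
noncomputable def e3T931 (i : Nat) : Nat := Bool.rec (e3L937 i) (e3L938 i) (Nat.ble 960512 i)
noncomputable def e3T932 (i : Nat) : Nat := Bool.rec (e3L939 i) (e3L940 i) (Nat.ble 962560 i)
noncomputable def e3T933 (i : Nat) : Nat := Bool.rec (e3T931 i) (e3T932 i) (Nat.ble 961536 i)
noncomputable def e3T934 (i : Nat) : Nat := Bool.rec (e3L941 i) (e3L942 i) (Nat.ble 964608 i)
noncomputable def e3T935 (i : Nat) : Nat := Bool.rec (e3L943 i) (e3L944 i) (Nat.ble 966656 i)
noncomputable def e3T936 (i : Nat) : Nat := Bool.rec (e3T934 i) (e3T935 i) (Nat.ble 965632 i)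
noncomputable def e3T937 (i : Nat) : Nat := Bool.rec (e3T933 i) (e3T936 i) (Nat.ble 963584 i)
noncomputable def e3T938 (i : Nat) : Nat := Bool.rec (e3T930 i) (e3T937 i) (Nat.ble 959488 i)
noncomputable def e3T939 (i : Nat) : Nat := Bool.rec (e3L946 i) (e3L947 i) (Nat.ble 969728 i)
noncomputable def e3T940 (i : Nat) : Nat := Bool.rec (e3L945 i) (e3T939 i) (Nat.ble 968704 i)
noncomputable def e3T941 (i : Nat) : Nat := Bool.rec (e3L948 i) (e3L949 i) (Nat.ble 971776 i)
noncomputable def e3T942 (i : Nat) : Nat := Bool.rec (e3L950 i) (e3L951 i) (Nat.ble 973824 i)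
noncomputable def e3T943 (i : Nat) : Nat := Bool.rec (e3T941 i) (e3T942 i) (Nat.ble 972800 i)
noncomputable def e3T944 (i : Nat) : Nat := Bool.rec (e3T940 i) (e3T943 i) (Nat.ble 970752 i)
noncomputable def e3T945 (i : Nat) : Nat := Bool.rec (e3L952 i) (e3L953 i) (Nat.ble 975872 i)
noncomputable def e3T946 (i : Nat) : Nat := Bool.rec (e3L954 i) (e3L955 i) (Nat.ble 977920 i)
noncomputable def e3T947 (i : Nat) : Nat := Bool.rec (e3T945 i) (e3T946 i) (Nat.ble 976896 i)
noncomputable def e3T948 (i : Nat) : Nat := Bool.rec (e3L956 i) (e3L957 i) (Nat.ble 979968 i)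
noncomputable def e3T949 (i : Nat) : Nat := Bool.rec (e3L958 i) (e3L959 i) (Nat.ble 982016 i)
noncomputable def e3T950 (i : Nat) : Nat := Bool.rec (e3T948 i) (e3T949 i) (Nat.ble 980992 i)
noncomputable def e3T951 (i : Nat) : Nat := Bool.rec (e3T947 i) (e3T950 i) (Nat.ble 978944 i)
noncomputable def e3T952 (i : Nat) : Nat := Bool.rec (e3T944 i) (e3T951 i) (Nat.ble 974848 i)
noncomputable def e3T953 (i : Nat) : Nat := Bool.rec (e3T938 i) (e3T952 i) (Nat.ble 967680 i)
noncomputable def e3T954 (i : Nat) : Nat := Bool.rec (e3T924 i) (e3T953 i) (Nat.ble 952320 i)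
noncomputable def e3T955 (i : Nat) : Nat := Bool.rec (e3T895 i) (e3T954 i) (Nat.ble 921600 i)
noncomputable def e3T956 (i : Nat) : Nat := Bool.rec (e3T836 i) (e3T955 i) (Nat.ble 860160 i)
noncomputable def e3T957 (i : Nat) : Nat := Bool.rec (e3T717 i) (e3T956 i) (Nat.ble 737280 i)
noncomputable def e3T958 (i : Nat) : Nat := Bool.rec (e3T478 i) (e3T957 i) (Nat.ble 491520 i)
/-- the entry of an unknown -/
noncomputable def ent3 (i : Nat) : Nat := e3T958 i

end Cfsg.Agent.Lib.Helper4.ONM
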