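import Cfsg.Agent.Lib.Helper4.ONM.UD
import Cfsg.Agent.Lib.Helper4.ONM.U3.Ent
set_option autoImplicit false

/-! # The sparse certificate of the O'Nan group for the prime 3: the relations (the first eight normalise the lifts of the letters), the data, the certificate -/

namespace Cfsg.Agent.Lib.Helper4.ONM

open Cfsg.Agent.Lib.Helper1.StemSA Cfsg.Agent.Lib.Helper4.Sparse

/-- the relations: the relators as words of letters -/
def rels3 : List (List ℕ × List ℕ) :=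
  [([2, 2], []),
  ([3, 3], []),
  ([4, 4], []),
  ([5, 5], []),
  ([6, 6], []),
  ([7, 7], []),
  ([2, 7, 1, 1], []),
  ([0, 1], []),
  ([2, 3, 2, 3, 2, 3], []),
  ([2, 4, 2, 4], []),
  ([2, 5, 2, 5], []),
  ([2, 6, 2, 6], []),
  ([2, 7, 2, 7], []),
  ([3, 4, 3, 4, 3, 4], []),
  ([3, 5, 3, 5], []),
  ([3, 6, 3, 6], []),
  ([3, 7, 3, 7], []),
  ([4, 5, 4, 5, 4, 5, 4, 5, 4, 5, 4, 5, 4, 5, 4, 5], []),
  ([4, 6, 4, 6], []),
  ([4, 7, 4, 7], []),
  ([5, 6, 5, 6, 5, 6], []),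
  ([5, 7, 5, 7], []),
  ([6, 7, 6, 7, 6, 7], []),
  ([2, 7, 5, 4, 5, 4, 5, 4, 5, 4], []),
  ([4, 1, 5, 1, 5, 4, 5, 0, 5, 0], []),
  ([5, 1, 4, 1, 4, 5, 4, 0, 4, 0], []),
  ([3, 4, 5, 0, 3, 4, 5, 0, 3, 4, 5, 0, 3, 4, 5, 0, 3, 4, 5, 0], []),
  ([0, 3, 4, 0, 4, 3, 0, 3, 4, 0, 4], []),
  ([0, 6, 5, 0, 5, 6, 0, 6, 5, 0, 5], [])]

/-- the data of the labelled action -/
noncomputable def D3 : SAData := DON rels3

/-- the certificate -/
noncomputable def C3 : SCert :=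
  { q := 9, T := 3, W := 8, c := 8, eW := 23, rW := 8, ent := ent3,
    gs := fun t => List.getD [368286, 122777, 491221] t 0, nn := 8 }

end Cfsg.Agent.Lib.Helper4.ONM
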