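import Cfsg.Agent.Lib.Helper4.ONM.U3.Cert
set_option autoImplicit false
set_option maxRecDepth 1000000
set_option Elab.async false
namespace Cfsg.Agent.Lib.Helper4.ONM
open Cfsg.Agent.Lib.Helper4.Sparse
theorem c3_k_132 : chkURange D3 C3 540672 4096 = true := by decide +kernel
theorem c3_k_133 : chkURange D3 C3 544768 4096 = true := by decide +kernel
theorem c3_k_134 : chkURange D3 C3 548864 4096 = true := by decide +kernel
theorem c3_k_135 : chkURange D3 C3 552960 4096 = true := by decide +kernel
theorem c3_k_136 : chkURange D3 C3 557056 4096 = true := by decide +kernel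
theorem c3_k_137 : chkURange D3 C3 561152 4096 = true := by decide +kernel
theorem c3_k_138 : chkURange D3 C3 565248 4096 = true := by decide +kernel
theorem c3_k_139 : chkURange D3 C3 569344 4096 = true := by decide +kernel
theorem c3_k_140 : chkURange D3 C3 573440 4096 = true := by decide +kernel
theorem c3_k_141 : chkURange D3 C3 577536 4096 = true := by decide +kernel
theorem c3_k_142 : chkURange D3 C3 581632 4096 = true := by decide +kernel
theorem c3_k_143 : chkURange D3 C3 585728 4096 = true := by decide +kernel
theorem chkU3_11 (b : ℕ) (h1 : 540672 ≤ b) (h2 : b < 589824) : chkU D3 C3 b = true := by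
  rcases Nat.lt_or_ge b 544768 with g0 | g0
  · exact chkURange_spec D3 C3 540672 4096 c3_k_132 b (by omega) (by omega)
  rcases Nat.lt_or_ge b 548864 with g1 | g1
  · exact chkURange_spec D3 C3 544768 4096 c3_k_133 b (by omega) (by omega)
  rcases Nat.lt_or_ge b 552960 with g2 | g2
  · exact chkURange_spec D3 C3 548864 4096 c3_k_134 b (by omega) (by omega)
  rcases Nat.lt_or_ge b 557056 with g3 | g3
  · exact chkURange_spec D3 C3 552960 4096 c3_k_135 b (by omega) (by omega)
  rcases Nat.lt_or_ge b 561152 with g4 | g4
  · exact chkURange_spec D3 C3 557056 4096 c3_k_136 b (by omega) (by omega)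
  rcases Nat.lt_or_ge b 565248 with g5 | g5
  · exact chkURange_spec D3 C3 561152 4096 c3_k_137 b (by omega) (by omega)
  rcases Nat.lt_or_ge b 569344 with g6 | g6
  · exact chkURange_spec D3 C3 565248 4096 c3_k_138 b (by omega) (by omega)
  rcases Nat.lt_or_ge b 573440 with g7 | g7
  · exact chkURange_spec D3 C3 569344 4096 c3_k_139 b (by omega) (by omega)
  rcases Nat.lt_or_ge b 577536 with g8 | g8
  · exact chkURange_spec D3 C3 573440 4096 c3_k_140 b (by omega) (by omega)
  rcases Nat.lt_or_ge b 581632 with g9 | g9
  · exact chkURange_spec D3 C3 577536 4096 c3_k_141 b (by omega) (by omega)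
  rcases Nat.lt_or_ge b 585728 with g10 | g10
  · exact chkURange_spec D3 C3 581632 4096 c3_k_142 b (by omega) (by omega)
  exact chkURange_spec D3 C3 585728 4096 c3_k_143 b (by omega) (by omega)
end Cfsg.Agent.Lib.Helper4.ONM
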