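import Cfsg.Agent.Lib.Helper4.ONM.U3.Cert
set_option autoImplicit false
set_option maxRecDepth 1000000

/-! # The residual relations between the distinguished unknowns (prime 3) -/

namespace Cfsg.Agent.Lib.Helper4.ONM
open Cfsg.Agent.Lib.Helper4.Sparse

theorem res3_0 : chkResid D3 C3 8 36 771 = true := by decide +kernel
theorem res3_1 : chkResid D3 C3 8 66 3 = true := by decide +kernel
theorem res3_2 : chkResid D3 C3 8 422 459526 = true := by decide +kernel
theorem res3_3 : chkResid D3 C3 8 2094 131592 = true := by decide +kernel

/-- the residual relations -/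
def res3 : List (ℕ × ℕ × ℕ) :=
  [(8, 36, 771), (8, 66, 3), (8, 422, 459526), (8, 2094, 131592)]

theorem hres3 : ∀ x ∈ res3, chkResid D3 C3 x.1 x.2.1 x.2.2 = true := by
  intro x hx
  simp only [res3, List.mem_cons, List.mem_nil_iff, or_false] at hx
  rcases hx with rfl | rfl | rfl | rfl
  · exact res3_0
  · exact res3_1
  · exact res3_2
  · exact res3_3

/-- the target relations -/
def tgt3 : ℕ → ℕ := fun i => List.getD [3, 263, 65536] i 0

/-- the combinations of the residual relations giving the target relations -/
def comb3 : ℕ → List ℕ := fun i => List.getD [[1], [3, 3, 2, 2, 1, 1], [2, 2, 2, 2, 1, 1, 0, 0]] i []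

end Cfsg.Agent.Lib.Helper4.ONM
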