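import Cfsg.Agent.Lib.Helper4.ONM.U3.Res
set_option autoImplicit false
set_option maxRecDepth 1000000

/-! # The bound on the values of the unknowns from the checked certificate (prime 3) -/

namespace Cfsg.Agent.Lib.Helper4.ONM
open Cfsg.Agent.Lib.Helper1.StemSA Cfsg.Agent.Lib.Helper4.Sparse

universe u

theorem D3_n : D3.n = 982109 := by decide

theorem vb3_of (hS : D3.chkStruct = true) (hall : ∀ b < 982109, chkU D3 C3 b = true) :
    ValsBoundN.{u} D3 3 1 8 := by
  have h := valsBoundN_of_cert.{u} D3 C3 3 1 (by norm_num) hS (by decide)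
    (fun b hb => hall b (by rw [← D3_n]; exact hb)) (by decide) (by decide) (by decide)
    (by decide) (by decide) res3 hres3 tgt3 comb3 (by decide) (by decide) (by decide)
    (by decide) (by decide)
  exact h

end Cfsg.Agent.Lib.Helper4.ONM
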